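import Mathlib.Tactic.Ring
import Mathlib.Tactic.Linarith
import Mathlib.Tactic.LinearCombination
import Mathlib.Tactic.Positivity
import Mathlib.Tactic.NormNum.GCD
import Mathlib.Tactic.IntervalCases
import Mathlib.RingTheory.Int.Basic
import Mathlib.Data.Int.GCD
import Mathlib.Data.Nat.Factorial.Basic

/-!
The arithmetic of the order formula.
-/

set_option autoImplicit false
set_option maxHeartbeats 800000

namespace Cfsg.Lib.SmallCent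

theorem sols_decide : ∀ m : Fin 8, ∀ k : Fin 20, ∀ s : Bool,
    1 ≤ (m : ℕ) → (k : ℕ) % 2 = 1 →
    (if s then (1 : ℤ) else -1) * (8 * (m : ℕ) + (if s then (1 : ℤ) else -1)) * (k : ℕ) ^ 2 *
        (4 * (m : ℕ) + (if s then (1 : ℤ) else -1)) ^ 2 %
      (((k : ℕ) : ℤ) ^ 2 * (4 * (m : ℕ) + (if s then (1 : ℤ) else -1)) ^ 2 -
        16 * (2 * (m : ℕ) * (k : ℕ) - 1)) = 0 →
    ((m : ℕ) = 1 ∧ (k : ℕ) = 1) ∨ (s = false ∧ ((m : ℕ) = 1 ∧ (k : ℕ) = 3 ∨ (m : ℕ) = 2 ∧ (k : ℕ) = 1)) := by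
  decide +kernel

/-- The solutions when one of the two centralizer parts is trivial. -/
theorem sols {δ P : ℤ} {m k : ℕ} (hδ : δ = 1 ∨ δ = -1) (hm : 1 ≤ m) (hk : Odd k)
    (h : P * ((k : ℤ) ^ 2 * (4 * m + δ) ^ 2 - 16 * (2 * m * k - 1)) =
      δ * (8 * m + δ) * k ^ 2 * (4 * m + δ) ^ 2) :
    (m = 1 ∧ k = 1) ∨ (δ = -1 ∧ (m = 1 ∧ k = 3 ∨ m = 2 ∧ k = 1)) := by
  obtain ⟨e, he⟩ : ∃ e : ℤ, e = 4 * m + δ := ⟨_, rfl⟩
  obtain ⟨D, hD⟩ : ∃ D : ℤ, D = (k : ℤ) ^ 2 * e ^ 2 - 16 * (2 * m * k - 1) := ⟨_, rfl⟩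
  rw [← he, ← hD] at h
  have hk1 : 1 ≤ k := hk.pos
  have hkZ : (1 : ℤ) ≤ k := by exact_mod_cast hk1
  have hmZ : (1 : ℤ) ≤ m := by exact_mod_cast hm
  have he3 : 3 ≤ e := by rcases hδ with q | q <;> omega
  obtain ⟨r, hr⟩ := hk
  -- `D` is prime to `k` and to two
  have hek : IsCoprime D (k : ℤ) := by
    have h2k : IsCoprime (k : ℤ) 2 := ⟨1, -(r : ℤ), by rw [hr]; push_cast; ring⟩
    have h16 : IsCoprime (k : ℤ) 16 := (show (16 : ℤ) = 2 ^ 4 by norm_num) ▸ h2k.pow_right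
    have h3 : IsCoprime ((k : ℤ)) (16 + k * ((k : ℤ) * e ^ 2 - 32 * m)) :=
      IsCoprime.add_mul_left_right h16 _
    rw [show 16 + (k : ℤ) * ((k : ℤ) * e ^ 2 - 32 * m) = D by rw [hD]; ring] at h3
    exact h3.symm
  have hdvd : D ∣ δ * (8 * m + δ) * e ^ 2 := by
    have h1 : D ∣ (k : ℤ) ^ 2 * (δ * (8 * m + δ) * e ^ 2) := ⟨P, by linarith⟩
    exact (hek.pow_right).dvd_of_dvd_mul_left h1
  have hdvd' : D ∣ (8 * m + δ) * e ^ 2 := by
    rcases hδ with q | q <;> subst q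
    · simpa using hdvd
    · obtain ⟨c, hc⟩ := hdvd; exact ⟨-c, by linarith⟩
  -- the part of `D` shared with `e` divides `k + 2δ`
  obtain ⟨g, hg⟩ : ∃ g : ℤ, g = Int.gcd D e := ⟨_, rfl⟩
  have hgD : g ∣ D := hg ▸ Int.gcd_dvd_left _ _
  have hge : g ∣ e := hg ▸ Int.gcd_dvd_right _ _
  have hg0 : 0 < g := hg ▸ by exact_mod_cast Int.gcd_pos_of_ne_zero_right D (by omega)
  have hgk : g ∣ (δ * k + 2) := by
    have h8 : IsCoprime g 8 := by
      have he2 : IsCoprime e 2 := by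
        rcases hδ with q | q <;> subst q
        · exact ⟨1, -(2 * m : ℤ), by rw [he]; ring⟩
        · exact ⟨-1, 2 * (m : ℤ), by rw [he]; ring⟩
      exact (show (8 : ℤ) = 2 ^ 3 by norm_num) ▸ (he2.of_isCoprime_of_dvd_left hge).pow_right
    refine h8.dvd_of_dvd_mul_left ?_
    have h1 : (8 : ℤ) * (δ * k + 2) = D - e * ((k : ℤ) ^ 2 * e - 8 * k) := by
      rw [hD, he]; ring
    rw [h1]
    exact dvd_sub hgD (hge.mul_right _)
  have hgle : g ≤ e := Int.le_of_dvd (by omega) hge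
  have hgk2 : g ≤ k + 2 := by
    have hne : δ * (k : ℤ) + 2 ≠ 0 := by rcases hδ with q | q <;> subst q <;> omega
    have h1 : g ∣ |δ * (k : ℤ) + 2| := (dvd_abs _ _).2 hgk
    have h2 := Int.le_of_dvd (abs_pos.2 hne) h1
    have h3 : |δ * (k : ℤ) + 2| ≤ k + 2 :=
      abs_le.2 ⟨by rcases hδ with q | q <;> subst q <;> omega, by rcases hδ with q | q <;> subst q <;> omega⟩
    omega
  have hbound : D ≤ (2 * e + 1) * g ^ 2 := by
    obtain ⟨D', hD'⟩ := hgD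
    obtain ⟨e', he'⟩ := hge
    have hpos : 0 < (8 * (m : ℤ) + δ) * g ^ 2 := by
      have : 0 < 8 * (m : ℤ) + δ := by rcases hδ with q | q <;> omega
      positivity
    have h1 : D ∣ (8 * m + δ) * g ^ 2 := by
      have hc : (g : ℤ) = D * Int.gcdA D e + e * Int.gcdB D e := hg ▸ Int.gcd_eq_gcd_ab D e
      obtain ⟨A, hA⟩ : ∃ A, A = Int.gcdA D e := ⟨_, rfl⟩
      obtain ⟨B, hB⟩ : ∃ B, B = Int.gcdB D e := ⟨_, rfl⟩
      rw [← hA, ← hB] at hc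
      obtain ⟨c, hcc⟩ := hdvd'
      exact ⟨(8 * m + δ) * (D * A ^ 2 + 2 * A * e * B) + c * B ^ 2, by
        rw [hc]; linear_combination B ^ 2 * hcc⟩
    have h2 := Int.le_of_dvd hpos h1
    have h3 : 8 * (m : ℤ) + δ ≤ 2 * e + 1 := by rcases hδ with q | q <;> omega
    nlinarith [sq_nonneg g]
  have hlow : (k : ℤ) ^ 2 * e ^ 2 - 8 * k * e - 8 * k ≤ D := by
    rw [hD]
    rcases hδ with q | q <;> subst q <;> rw [he] <;> nlinarith
  have hg2 : g ^ 2 ≤ e ^ 2 := pow_le_pow_left₀ hg0.le hgle 2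
  have hg2' : g ^ 2 ≤ ((k : ℤ) + 2) ^ 2 := pow_le_pow_left₀ hg0.le hgk2 2
  have hm7 : m < 8 ∧ k < 20 := by
    by_cases hk2 : k = 1
    · subst hk2
      refine ⟨?_, by norm_num⟩
      by_contra hm'
      have h31 : (31 : ℤ) ≤ e := by rcases hδ with q | q <;> omega
      push_cast at hlow hg2'
      nlinarith
    · have hk3 : (3 : ℤ) ≤ k := by exact_mod_cast (by omega : 3 ≤ k)
      have he8 : e ≤ 8 := by
        by_contra he9
        push Not at he9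
        have h5 : 9 * (((k : ℤ) + 2) ^ 2) ≤ 25 * k ^ 2 := by nlinarith
        have h6 : (2 * e + 1) * g ^ 2 ≤ (2 * e + 1) * ((k : ℤ) + 2) ^ 2 :=
          mul_le_mul_of_nonneg_left hg2' (by omega)
        have h7 : 9 * ((2 * e + 1) * ((k : ℤ) + 2) ^ 2) ≤ (2 * e + 1) * (25 * k ^ 2) := by
          have := mul_le_mul_of_nonneg_left h5 (show (0 : ℤ) ≤ 2 * e + 1 by omega)
          linarith
        have h8 : 3 * (8 * (k : ℤ) * e + 8 * k) ≤ k ^ 2 * (8 * e + 8) := by nlinarith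
        have hpos : 0 < (k : ℤ) ^ 2 * (9 * e ^ 2 - 74 * e - 49) :=
          mul_pos (by positivity) (by nlinarith)
        linarith only [h6, h7, h8, hlow, hbound, hpos,
          show (k : ℤ) ^ 2 * (9 * e ^ 2 - 74 * e - 49) = 9 * (k ^ 2 * e ^ 2) -
            3 * (k ^ 2 * (8 * e + 8)) - (2 * e + 1) * (25 * k ^ 2) by ring]
      refine ⟨by rcases hδ with q | q <;> omega, ?_⟩
      by_contra hk'
      have h20 : (20 : ℤ) ≤ k := by exact_mod_cast (by omega : 20 ≤ k)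
      have h6 : (2 * e + 1) * g ^ 2 ≤ 17 * 64 := by
        have : g ^ 2 ≤ 64 := le_trans hg2 (by nlinarith)
        nlinarith
      have h9 : 9 * (k : ℤ) ^ 2 ≤ k ^ 2 * e ^ 2 := by
        have : (9 : ℤ) ≤ e ^ 2 := by nlinarith
        nlinarith
      have h10 : (k : ℤ) * e ≤ k * 8 := mul_le_mul_of_nonneg_left he8 (by omega)
      nlinarith
  rw [hD, he] at h
  have hmod : δ * (8 * m + δ) * (k : ℤ) ^ 2 * (4 * m + δ) ^ 2 %
      ((k : ℤ) ^ 2 * (4 * m + δ) ^ 2 - 16 * (2 * m * k - 1)) = 0 :=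
    Int.emod_eq_zero_of_dvd ⟨P, by rw [← h]; ring⟩
  rcases hδ with q | q <;> subst q
  · rcases sols_decide ⟨m, hm7.1⟩ ⟨k, hm7.2⟩ true hm (by show k % 2 = 1; omega) hmod with h' | ⟨h', -⟩
    · exact Or.inl h'
    · exact absurd h' (by decide)
  · rcases sols_decide ⟨m, hm7.1⟩ ⟨k, hm7.2⟩ false hm (by show k % 2 = 1; omega) hmod with h' | ⟨-, h'⟩
    · exact Or.inl h'
    · exact Or.inr ⟨rfl, h'⟩

theorem cube_decide : ∀ k : Fin 250, (k : ℕ) % 2 = 1 → (k : ℕ) ^ 4 ∣ 1816214400 →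
    (k : ℕ) ≤ 3 := by decide +kernel

/-- When both centralizer parts are nontrivial. -/
theorem both {δ : ℤ} {m k a b n J o₁ o₂ : ℕ} (hδ : δ = 1 ∨ δ = -1) (hm : 1 ≤ m) (hk : Odd k)
    (ho₁ : Odd o₁) (h1 : 1 < o₁) (hsum : o₁ + o₂ = 2 * m * k) (hle : o₁ ≤ o₂)
    (hn : n = 1 + 2 * a + 4 * b) (ha : Odd a) (hb : Odd b) (hb3 : 3 ≤ b)
    (hJ : 2 * o₂ ^ 2 + 1 ≤ J) (hJ' : a = 1 → 2 * o₂ ^ 2 + o₁ ^ 2 ≤ J)
    (hnJ : (n : ℤ) * J = (8 * m + δ) * (4 * m + δ) * k ^ 2)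
    (hfac : n * J * (8 * (o₁ * o₂)) ∣ n.factorial) : n * J * (8 * (o₁ * o₂)) = 29160 := by
  obtain ⟨K, hK⟩ : ∃ K : ℤ, K = (8 * m + δ) * (4 * m + δ) := ⟨_, rfl⟩
  rw [← hK] at hnJ
  have hmZ : (1 : ℤ) ≤ m := by exact_mod_cast hm
  have hkZ : (1 : ℤ) ≤ k := by exact_mod_cast hk.pos
  have hsum' : (o₁ : ℤ) + o₂ = 2 * m * k := by exact_mod_cast hsum
  have hle' : (o₁ : ℤ) ≤ o₂ := by exact_mod_cast hle
  have hmk : (m : ℤ) * k ≤ o₂ := by linarith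
  have hJZ : 2 * (o₂ : ℤ) ^ 2 + 1 ≤ J := by exact_mod_cast hJ
  have hK45 : K ≤ 45 * (m : ℤ) ^ 2 := by rw [hK]; rcases hδ with q | q <;> subst q <;> nlinarith
  have hn22 : (2 * (n : ℤ)) * ((m : ℤ) * k) ^ 2 < K * k ^ 2 := by
    have h2 : 2 * ((m : ℤ) * k) ^ 2 ≤ 2 * (o₂ : ℤ) ^ 2 := by
      have := pow_le_pow_left₀ (by positivity) hmk 2; linarith
    have hn0 : (0 : ℤ) < n := by exact_mod_cast (by omega : 0 < n)
    nlinarith
  have hkm : (2 * (n : ℤ)) * (m : ℤ) ^ 2 < K := by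
    refine lt_of_mul_lt_mul_right ?_ (sq_nonneg (k : ℤ))
    linarith only [hn22, show (2 * (n : ℤ)) * (m : ℤ) ^ 2 * (k : ℤ) ^ 2 =
      (2 * (n : ℤ)) * ((m : ℤ) * k) ^ 2 by ring]
  have hnle : n ≤ 22 := by
    have h1 : (2 * (n : ℤ)) * (m : ℤ) ^ 2 < 45 * (m : ℤ) ^ 2 := hkm.trans_le hK45
    have h2 := lt_of_mul_lt_mul_right h1 (sq_nonneg _)
    omega
  obtain ⟨a', ha'⟩ := ha
  obtain ⟨b', hb'⟩ := hb
  have hcases : (n = 15 ∧ a = 1) ∨ n = 19 := by omega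
  rcases hcases with ⟨hn15, ha1⟩ | hn19
  · subst hn15
    have hJ2 : 2 * (o₂ : ℤ) ^ 2 + (o₁ : ℤ) ^ 2 ≤ J := by exact_mod_cast hJ' ha1
    have h83 : 8 * ((m : ℤ) * k) ^ 2 ≤ 3 * (2 * (o₂ : ℤ) ^ 2 + (o₁ : ℤ) ^ 2) := by
      have h1 : ((o₁ : ℤ) + o₂) ^ 2 = (2 * m * k) ^ 2 := by rw [hsum']
      linarith only [h1, sq_nonneg ((o₁ : ℤ) - 2 * o₂), show ((o₁ : ℤ) + o₂) ^ 2 =
        (o₁ : ℤ) ^ 2 + 2 * ((o₁ : ℤ) * o₂) + (o₂ : ℤ) ^ 2 by ring, show ((o₁ : ℤ) - 2 * o₂) ^ 2 =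
        (o₁ : ℤ) ^ 2 - 4 * ((o₁ : ℤ) * o₂) + 4 * (o₂ : ℤ) ^ 2 by ring, show (2 * (m : ℤ) * k) ^ 2 =
        4 * ((m : ℤ) * k) ^ 2 by ring]
    have h40 : 40 * (m : ℤ) ^ 2 ≤ K := by
      push_cast at hnJ
      refine le_of_mul_le_mul_right ?_ (by positivity : (0 : ℤ) < (k : ℤ) ^ 2)
      linarith only [h83, hJ2, hnJ, show 40 * (m : ℤ) ^ 2 * (k : ℤ) ^ 2 = 5 * (8 * ((m : ℤ) * k) ^ 2) by ring]
    have hm1 : m = 1 ∧ δ = 1 := by
      rw [hK] at h40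
      rcases hδ with q | q <;> subst q
      · refine ⟨?_, rfl⟩
        by_contra h
        have : (2 : ℤ) ≤ m := by exact_mod_cast (by omega : 2 ≤ m)
        nlinarith
      · exfalso; nlinarith
    obtain ⟨rfl, rfl⟩ := hm1
    have hK' : K = 45 := by rw [hK]; norm_num
    subst hK'
    push_cast at hnJ hsum'
    have hJk : (J : ℤ) = 3 * k ^ 2 := by linarith
    have ho2 : (o₂ : ℤ) = k := by
      have h : 2 * (o₂ : ℤ) ^ 2 + (2 * k - (o₂ : ℤ)) ^ 2 ≤ 3 * k ^ 2 := by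
        rw [show 2 * (k : ℤ) - o₂ = o₁ by linarith, ← hJk]; exact hJ2
      nlinarith
    have ho2' : o₂ = k := by exact_mod_cast ho2
    have ho1' : o₁ = k := by omega
    have hJk' : J = 3 * k ^ 2 := by exact_mod_cast hJk
    subst ho1' ho2' hJk'
    have hd : o₂ ^ 4 ∣ 1816214400 * 2 := by
      have e : (15 : ℕ).factorial = 360 * 3632428800 := by norm_num [Nat.factorial]
      rw [e, show 15 * (3 * o₂ ^ 2) * (8 * (o₂ * o₂)) = 360 * o₂ ^ 4 by ring] at hfac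
      exact Nat.dvd_of_mul_dvd_mul_left (by norm_num) hfac
    have hd' : o₂ ^ 4 ∣ 1816214400 :=
      (Nat.Coprime.pow_left 4 (Nat.coprime_two_right.2 ho₁)).dvd_of_dvd_mul_right hd
    have hk250 : o₂ < 250 := by
      by_contra h
      have h1 := Nat.le_of_dvd (by norm_num) hd'
      have h2 : 250 ^ 4 ≤ o₂ ^ 4 := Nat.pow_le_pow_left (by omega) 4
      norm_num at h2
      omega
    have h3 := cube_decide ⟨o₂, hk250⟩ (by show o₂ % 2 = 1; exact Nat.odd_iff.1 ho₁) hd'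
    have : o₂ = 3 := by
      obtain ⟨r, hr⟩ := ho₁
      simp only at h3
      omega
    subst this
    norm_num
  · exfalso
    subst hn19
    push_cast at hkm hnJ
    have hm2 : δ = 1 ∧ m ≤ 2 := by
      rw [hK] at hkm
      rcases hδ with q | q <;> subst q
      · refine ⟨rfl, ?_⟩
        by_contra h
        have : (3 : ℤ) ≤ m := by exact_mod_cast (by omega : 3 ≤ m)
        nlinarith
      · exfalso; nlinarith
    obtain ⟨rfl, hm2⟩ := hm2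
    have hK' : K = 45 ∨ K = 153 := by
      interval_cases m <;> norm_num at hK <;> simp [hK]
    have h19k : (19 : ℤ) ∣ (k : ℤ) ^ 2 := by
      have h : (19 : ℤ) ∣ K * k ^ 2 := ⟨J, by linarith⟩
      rcases hK' with q | q <;> subst q <;>
        exact (Int.isCoprime_iff_gcd_eq_one.2 (by norm_num)).dvd_of_dvd_mul_left h
    have h19' : 19 ∣ k := by
      have : 19 ∣ k ^ 2 := by exact_mod_cast h19k
      exact (show Nat.Prime 19 from Nat.prime_def.2 ⟨by norm_num, fun d hd => by have := Nat.le_of_dvd (by norm_num) hd; interval_cases d <;> omega⟩).dvd_of_dvd_pow this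
    obtain ⟨c, rfl⟩ := h19'
    have hJ19 : (19 : ℤ) ∣ J := by
      push_cast at hnJ
      exact ⟨K * c ^ 2, by nlinarith⟩
    have hJn : 19 ∣ J := by exact_mod_cast hJ19
    obtain ⟨J', rfl⟩ := hJn
    have h361 : 361 ∣ (19 : ℕ).factorial :=
      (Dvd.intro (J' * (8 * (o₁ * o₂))) (by ring)).trans hfac
    norm_num [Nat.factorial] at h361

end Cfsg.Lib.SmallCent
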