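import Cfsg.Agent.S3224
import Cfsg.Agent.S0646
import Cfsg.Agent.Lib.ZStar.Main
import Cfsg.Agent.Lib.Invol.SylowTools
import Cfsg.Agent.Lib.Small.SimpleOrder
import Mathlib.GroupTheory.Transfer

/-!
Sylow 2-subgroups of a simple group with an element of order four whose centralizer has order four:
they are dihedral of order eight.
-/

set_option autoImplicit false

namespace Cfsg.Lib.SmallCent

open Subgroup

universe u

theorem centralizer_eq_zpowers {T : Type u} [Group T] [Finite T] {x : T}
    (h : Nat.card (centralizer ({x} : Set T)) ≤ orderOf x) :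
    centralizer ({x} : Set T) = zpowers x :=
  (eq_of_le_of_card_ge (zpowers_le.2 (mem_centralizer_singleton_iff.2 rfl))
    (by rw [Nat.card_zpowers]; exact h)).symm

theorem eq_of_mem_zpowers_four {T : Type u} [Group T] [Finite T] {x y : T} (hx : orderOf x = 4)
    (hy : y ∈ zpowers x) : y = 1 ∨ y = x ∨ y = x ^ 2 ∨ y = x⁻¹ := by
  obtain ⟨i, hi⟩ := (IsOfFinOrder.mem_powers_iff_mem_zpowers (isOfFinOrder_of_finite x)).2 hy
  have e : x ^ (i % 4) = y := by rw [← hx, pow_mod_orderOf]; exact hi
  have h3 : x ^ 3 = x⁻¹ := eq_inv_of_mul_eq_one_left (by rw [← pow_succ, show 3 + 1 = orderOf x from hx.symm, pow_orderOf_eq_one])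
  have : i % 4 < 4 := Nat.mod_lt _ (by norm_num)
  interval_cases i % 4
  · exact Or.inl (by rw [← e, pow_zero])
  · exact Or.inr (Or.inl (by rw [← e, pow_one]))
  · exact Or.inr (Or.inr (Or.inl e.symm))
  · exact Or.inr (Or.inr (Or.inr (by rw [← e, h3])))

section
variable {T : Type u} [Group T] [Finite T]

/-- A 2-group with an element of order four whose centralizer has order four. -/
theorem twoGroup_shape (hT : IsPGroup 2 T) {x : T} (hx : orderOf x = 4)
    (hC : Nat.card (centralizer ({x} : Set T)) = 4) (h4 : Nat.card T ≠ 4) :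
    (Nat.card T = 8 ∧ ∃ y, orderOf y = 2 ∧ y * x * y⁻¹ = x⁻¹) ∨
    (∀ t : T, orderOf t = 2 → t = x ^ 2) ∨
    (∃ M : Subgroup T, M.index = 2 ∧ x ∉ M ∧ (∀ t : T, orderOf t = 2 → t ∈ M) ∧
      ∀ t ∈ M, orderOf t = 4 → 8 ≤ Nat.card (centralizer ({t} : Set T))) := by
  classical
  haveI : Fact (Nat.Prime 2) := ⟨Nat.prime_two⟩
  have hCx : centralizer ({x} : Set T) = zpowers x := centralizer_eq_zpowers (by omega)
  have hcx : ∀ g : T, g * x = x * g → g ∈ zpowers x := fun g hg =>
    hCx ▸ mem_centralizer_singleton_iff.2 hg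
  have hx4 : x ^ 4 = 1 := hx ▸ pow_orderOf_eq_one x
  have hz2 : orderOf (x ^ 2) = 2 := by
    rw [orderOf_pow' x two_ne_zero, hx]; rfl
  have hxi : x⁻¹ ≠ x := fun h => by
    have := orderOf_dvd_of_pow_eq_one (show x ^ 2 = 1 by rw [pow_two]; nth_rw 1 [← h]; exact inv_mul_cancel x)
    have := Nat.le_of_dvd two_pos this
    omega
  obtain ⟨j, hj⟩ := IsPGroup.iff_card.1 hT
  have hlt : zpowers x < ⊤ := lt_top_iff_ne_top.2 fun h => h4 (by
    rw [← card_top (G := T), ← h, Nat.card_zpowers, hx])
  haveI := hT.isNilpotent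
  -- the normalizer
  set N := normalizer (zpowers x : Set T) with hN
  have hnorm : ∀ g ∈ N, g * x * g⁻¹ = x ∨ g * x * g⁻¹ = x⁻¹ := by
    intro g hg
    have h1 : g * x * g⁻¹ ∈ zpowers x := (mem_normalizer_iff.1 hg x).1 (mem_zpowers x)
    have ho : orderOf (g * x * g⁻¹) = 4 := by rw [Cfsg.Lib.Invol.orderOf_conj_eq, hx]
    rcases eq_of_mem_zpowers_four hx h1 with e | e | e | e
    · rw [e, orderOf_one] at ho; omega
    · exact Or.inl e
    · rw [e, hz2] at ho; omega
    · exact Or.inr e
  obtain ⟨b, hb⟩ : ∃ b : T, b * x * b⁻¹ = x⁻¹ := by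
    obtain ⟨b, hbN, hbC⟩ := SetLike.exists_of_lt (Group.normalizerCondition_of_isNilpotent _ hlt)
    rcases hnorm b hbN with e | e
    · exact absurd (hcx b (mul_inv_eq_iff_eq_mul.1 e)) hbC
    · exact ⟨b, e⟩
  by_cases hinv : ∃ y : T, orderOf y = 2 ∧ y * x * y⁻¹ = x⁻¹
  · refine Or.inl ⟨?_, hinv⟩
    obtain ⟨y, hy, hyx⟩ := hinv
    have hyy : y * y = 1 := by rw [← pow_two, ← hy, pow_orderOf_eq_one]
    have hyi : y⁻¹ = y := inv_eq_of_mul_eq_one_right hyy
    have hyN : y ∈ N := mem_normalizer_iff.2 fun h => by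
      have hfl : ∀ c ∈ zpowers x, y * c * y⁻¹ ∈ zpowers x := by
        rintro c ⟨i, rfl⟩
        rw [← conj_zpow, hyx]
        exact zpow_mem (inv_mem (mem_zpowers x)) i
      refine ⟨hfl h, fun h' => ?_⟩
      have := hfl _ h'
      rwa [hyi, show y * (y * h * y) * y = y * y * h * (y * y) by group, hyy, one_mul, mul_one]
        at this
    have hmem : ∀ g ∈ N, g ∈ zpowers x ∨ y * g ∈ zpowers x := by
      intro g hg
      rcases hnorm g hg with e | e
      · exact Or.inl (hcx g (mul_inv_eq_iff_eq_mul.1 e))
      · refine Or.inr (hcx _ (mul_inv_eq_iff_eq_mul.1 ?_))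
        rw [show y * g * x * (y * g)⁻¹ = y * (g * x * g⁻¹) * y⁻¹ by group, e, ← conj_inv, hyx,
          inv_inv]
    have hidx : ((zpowers x).subgroupOf N).index = 2 := by
      refine index_eq_two_iff.2 ⟨⟨y, hyN⟩, fun g => ?_⟩
      have hynot : y ∉ zpowers x := fun h => by
        obtain ⟨i, hi⟩ := h
        simp only at hi
        have : Commute y x := hi ▸ (Commute.refl x).zpow_left i
        rw [this.eq, mul_inv_cancel_right] at hyx
        exact hxi hyx.symm
      rcases hmem g g.2 with e | e
      · refine Or.inr ⟨e, fun hgy => hynot ?_⟩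
        have := mul_mem (inv_mem e) (show (g : T) * y ∈ zpowers x from hgy)
        rwa [inv_mul_cancel_left] at this
      · refine Or.inl ⟨?_, fun hg => hynot ?_⟩
        · show (g : T) * y ∈ zpowers x
          rcases hnorm g g.2 with e' | e'
          · exfalso
            have h1 := hcx g (mul_inv_eq_iff_eq_mul.1 e')
            exact hynot (by have := mul_mem e (inv_mem h1); rwa [mul_inv_cancel_right] at this)
          · refine hcx _ (mul_inv_eq_iff_eq_mul.1 ?_)
            rw [show (g : T) * y * x * ((g : T) * y)⁻¹ = g * (y * x * y⁻¹) * (g : T)⁻¹ by group,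
              hyx, ← conj_inv, e', inv_inv]
        · have := mul_mem e (inv_mem (show (g : T) ∈ zpowers x from hg))
          rwa [mul_inv_cancel_right] at this
    have hN8 : Nat.card N = 8 := by
      rw [← ((zpowers x).subgroupOf N).card_mul_index, hidx,
        Nat.card_congr (subgroupOfEquivOfLe (le_normalizer : zpowers x ≤ N)).toEquiv,
        Nat.card_zpowers, hx]
    by_contra h8
    have hNlt : N < ⊤ := lt_top_iff_ne_top.2 fun h => h8 (by rw [← card_top (G := T), ← h, hN8])
    obtain ⟨g, hgN, hg⟩ := SetLike.exists_of_lt (Group.normalizerCondition_of_isNilpotent _ hNlt)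
    apply hg
    have hgx : g * x * g⁻¹ ∈ N := (mem_normalizer_iff.1 hgN x).1 (le_normalizer (mem_zpowers x))
    have hgxz : g * x * g⁻¹ ∈ zpowers x := by
      refine (hmem _ hgx).resolve_right fun e => ?_
      have ho : orderOf (g * x * g⁻¹) = 4 := by rw [Cfsg.Lib.Invol.orderOf_conj_eq, hx]
      obtain ⟨i, hi⟩ := e
      simp only at hi
      have e1 : g * x * g⁻¹ = y * x ^ i := by rw [hi, ← mul_assoc, hyy, one_mul]
      have e2 : y * x ^ i * (y * x ^ i) = 1 := by
        rw [show y * x ^ i * (y * x ^ i) = y * x ^ i * y * x ^ i by group]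
        nth_rw 2 [← hyi]
        rw [← conj_zpow, hyx, inv_zpow, inv_mul_cancel]
      have := orderOf_dvd_of_pow_eq_one (show (g * x * g⁻¹) ^ 2 = 1 by rw [e1, pow_two]; exact e2)
      rw [ho] at this
      omega
    rw [hN, mem_normalizer_iff_conj_image_eq]
    have hle : (zpowers x).map (MulAut.conj g).toMonoidHom ≤ zpowers x := by
      rw [MonoidHom.map_zpowers, zpowers_le]
      exact hgxz
    have := eq_of_le_of_card_ge hle (by rw [card_map_of_injective (MulAut.conj g).injective])
    exact congrArg SetLike.coe this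
  · refine Or.inr ?_
    push Not at hinv
    -- the square of x is central
    have hzc : x ^ 2 ∈ center T := by
      haveI : Nontrivial T := ⟨x, 1, fun h => by rw [h, orderOf_one] at hx; omega⟩
      haveI := hT.center_nontrivial
      obtain ⟨c, hc⟩ := exists_ne (1 : center T)
      obtain ⟨c, hcZ⟩ := c
      have hc1 : c ≠ 1 := fun h => hc (Subtype.ext h)
      rcases eq_of_mem_zpowers_four hx (hcx c ((mem_center_iff.1 hcZ x).symm)) with e | e | e | e
      · exact absurd e hc1
      · exact pow_mem (e ▸ hcZ) 2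
      · exact e ▸ hcZ
      · exact pow_mem (inv_mem_iff.1 (e ▸ hcZ)) 2
    set Z := zpowers (x ^ 2) with hZ
    have hZc : Z ≤ center T := zpowers_le.2 hzc
    haveI : Z.Normal := ⟨fun a ha g => by rwa [mem_center_iff.1 (hZc ha) g, mul_inv_cancel_right]⟩
    have hZ2 : Nat.card Z = 2 := by rw [Nat.card_zpowers, hz2]
    have hZmem : ∀ g ∈ Z, g = 1 ∨ g = x ^ 2 := fun g hg => by
      obtain ⟨i, rfl⟩ := (IsOfFinOrder.mem_powers_iff_mem_zpowers (isOfFinOrder_of_finite _)).2 hg
      rcases Nat.even_or_odd' i with ⟨l, rfl | rfl⟩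
      · left
        show (x ^ 2) ^ (2 * l) = 1
        rw [← pow_mul, show 2 * (2 * l) = 4 * l by ring, pow_mul, hx4, one_pow]
      · right
        show (x ^ 2) ^ (2 * l + 1) = x ^ 2
        rw [← pow_mul, show 2 * (2 * l + 1) = 4 * l + 2 by ring, pow_add, pow_mul, hx4, one_pow,
          one_mul]
    -- a cyclic subgroup of index two
    obtain ⟨C, hCcyc, hCi⟩ : ∃ C : Subgroup T, IsCyclic C ∧ C.index = 2 := by
      by_cases h8 : Nat.card T = 8
      · refine ⟨zpowers x, inferInstance, ?_⟩
        have := (zpowers x).card_mul_index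
        rw [Nat.card_zpowers, hx, h8] at this
        omega
      set q := QuotientGroup.mk' Z
      have hqx : orderOf (q x) = 2 := by
        refine orderOf_eq_prime ?_ fun h => ?_
        · rw [← map_pow]
          exact (QuotientGroup.eq_one_iff _).2 (mem_zpowers _)
        · rcases hZmem x ((QuotientGroup.eq_one_iff _).1 h) with e | e
          · rw [e, orderOf_one] at hx; omega
          · have := congrArg orderOf e; omega
      have hNq : centralizer ({q x} : Set (T ⧸ Z)) = N.map q := by
        ext c
        obtain ⟨g, rfl⟩ := QuotientGroup.mk'_surjective Z c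
        constructor
        · intro hg
          refine ⟨g, ?_, rfl⟩
          have h1 : g * x * g⁻¹ * x⁻¹ ∈ Z := (QuotientGroup.eq_one_iff _).1 (by
            show q (g * x * g⁻¹ * x⁻¹) = 1
            rw [map_mul, map_mul, map_mul, map_inv, map_inv, mem_centralizer_singleton_iff.1 hg]
            show q x * q g * (q g)⁻¹ * (q x)⁻¹ = 1
            group)
          have h2 : g * x * g⁻¹ ∈ zpowers x := by
            have := mul_mem (zpowers_le.2 (pow_mem (mem_zpowers x) 2) h1) (mem_zpowers x)
            rwa [inv_mul_cancel_right] at this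
          have hle : (zpowers x).map (MulAut.conj g).toMonoidHom ≤ zpowers x := by
            rw [MonoidHom.map_zpowers, zpowers_le]
            exact h2
          have := eq_of_le_of_card_ge hle (by rw [card_map_of_injective (MulAut.conj g).injective])
          exact mem_normalizer_iff_conj_image_eq.2 (congrArg SetLike.coe this)
        · rintro ⟨g', hg', e⟩
          rw [← e, mem_centralizer_singleton_iff, ← map_mul, ← map_mul]
          rcases hnorm g' hg' with e' | e'
          · rw [mul_inv_eq_iff_eq_mul.1 e']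
          · rw [mul_inv_eq_iff_eq_mul.1 e']
            refine (QuotientGroup.eq).2 ?_
            rw [show (x⁻¹ * g')⁻¹ * (x * g') = g'⁻¹ * (x ^ 2) * g' by rw [pow_two]; group,
              mem_center_iff.1 hzc g'⁻¹, inv_mul_cancel_right]
            exact mem_zpowers _
      have hN8 : Nat.card N = 8 := by
        have hidx : ((zpowers x).subgroupOf N).index = 2 := by
          have hbN : b ∈ N := by
            have hle : (zpowers x).map (MulAut.conj b).toMonoidHom ≤ zpowers x := by
              rw [MonoidHom.map_zpowers, zpowers_le]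
              show b * x * b⁻¹ ∈ zpowers x
              rw [hb]; exact inv_mem (mem_zpowers x)
            have := eq_of_le_of_card_ge hle
              (by rw [card_map_of_injective (MulAut.conj b).injective])
            exact mem_normalizer_iff_conj_image_eq.2 (congrArg SetLike.coe this)
          have hbnot : b ∉ zpowers x := fun h => by
            obtain ⟨i, hi⟩ := h
            simp only at hi
            have : Commute b x := hi ▸ (Commute.refl x).zpow_left i
            rw [this.eq, mul_inv_cancel_right] at hb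
            exact hxi hb.symm
          refine index_eq_two_iff.2 ⟨⟨b, hbN⟩, fun g => ?_⟩
          rcases hnorm g g.2 with e | e
          · have hg := hcx g (mul_inv_eq_iff_eq_mul.1 e)
            refine Or.inr ⟨hg, fun h => hbnot ?_⟩
            have := mul_mem (inv_mem hg) (show (g : T) * b ∈ zpowers x from h)
            rwa [inv_mul_cancel_left] at this
          · refine Or.inl ⟨?_, fun h => hxi ?_⟩
            · show (g : T) * b ∈ zpowers x
              refine hcx _ (mul_inv_eq_iff_eq_mul.1 ?_)
              rw [show (g : T) * b * x * ((g : T) * b)⁻¹ = g * (b * x * b⁻¹) * (g : T)⁻¹ by group,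
                hb, ← conj_inv, e, inv_inv]
            · have hc : Commute (g : T) x := by
                obtain ⟨i, hi⟩ := (show (g : T) ∈ zpowers x from h)
                exact hi ▸ (Commute.refl x).zpow_left i
              rw [hc.eq, mul_inv_cancel_right] at e
              exact e.symm
        rw [← ((zpowers x).subgroupOf N).card_mul_index, hidx,
          Nat.card_congr (subgroupOfEquivOfLe (le_normalizer : zpowers x ≤ N)).toEquiv,
          Nat.card_zpowers, hx]
      have hC4 : Nat.card (centralizer ({q x} : Set (T ⧸ Z))) = 4 := by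
        rw [hNq, ← MonoidHom.domRestrict_range N q]
        have h1 := (q.domRestrict N).ker.card_mul_index
        rw [index_ker, hN8] at h1
        have h2 : Nat.card (q.domRestrict N).ker = 2 := by
          rw [← hZ2]
          refine Nat.card_congr ⟨fun a => ⟨a.1.1, (QuotientGroup.eq_one_iff _).1 a.2⟩,
            fun a => ⟨⟨a.1, le_normalizer (zpowers_le.2 (pow_mem (mem_zpowers x) 2) a.2)⟩,
              (QuotientGroup.eq_one_iff _).2 a.2⟩, fun _ => rfl, fun _ => rfl⟩
        rw [h2] at h1
        omega
      have hcard : Nat.card T = Nat.card (T ⧸ Z) * 2 := by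
        rw [← hZ2]; exact card_eq_card_quotient_mul_card_subgroup Z
      have key : ∃ C' : Subgroup (T ⧸ Z), IsCyclic C' ∧ C'.index = 2 := by
        rcases Cfsg.Agent.S3224.result (hT.to_quotient Z) (q x) hqx hC4 with ⟨n, ⟨e⟩⟩ | hq | h
        · refine ⟨zpowers (e.symm (DihedralGroup.r 1)), inferInstance, ?_⟩
          have h1 := (zpowers (e.symm (DihedralGroup.r 1))).card_mul_index
          have hne : NeZero n := ⟨fun h0 => by
            subst h0
            haveI : Finite (DihedralGroup 0) := Finite.of_equiv _ e.toEquiv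
            exact not_finite (DihedralGroup 0)⟩
          rw [Nat.card_zpowers, MulEquiv.orderOf_eq, DihedralGroup.orderOf_r_one,
            Nat.card_congr e.toEquiv, DihedralGroup.nat_card] at h1
          have := NeZero.pos n
          nlinarith
        · obtain ⟨n, -, hn, a, _, ha, -, -⟩ := hq
          refine ⟨zpowers a, inferInstance, ?_⟩
          have h1 := (zpowers a).card_mul_index
          rw [Nat.card_zpowers, ha, hn, pow_succ] at h1
          exact mul_left_cancel₀ (by positivity) h1
        · omega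
      obtain ⟨C', hC', hC'i⟩ := key
      refine ⟨C'.comap q, ?_, by rw [index_comap_of_surjective _ (QuotientGroup.mk'_surjective Z), hC'i]⟩
      obtain ⟨⟨c, hc⟩, hgen⟩ := hC'.exists_generator
      obtain ⟨g, rfl⟩ := QuotientGroup.mk'_surjective Z c
      have hdec : ∀ a ∈ C'.comap q, ∃ i : ℤ, a * (g ^ i)⁻¹ ∈ Z := by
        intro a ha
        obtain ⟨i, hi⟩ := hgen ⟨q a, ha⟩
        refine ⟨i, (QuotientGroup.eq_one_iff _).1 ?_⟩
        show q (a * (g ^ i)⁻¹) = 1
        have h' : q g ^ i = q a := congrArg Subtype.val hi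
        rw [map_mul, map_inv, map_zpow, h', mul_inv_cancel]
      by_cases hzg : x ^ 2 ∈ zpowers g
      · have : C'.comap q = zpowers g := by
          refine le_antisymm (fun a ha => ?_) (zpowers_le.2 hc)
          obtain ⟨i, hi⟩ := hdec a ha
          have := mul_mem (zpowers_le.2 hzg hi) (zpow_mem (mem_zpowers g) i)
          rwa [inv_mul_cancel_right] at this
        rw [this]; infer_instance
      -- otherwise a four-group appears, whose members invert x
      exfalso
      obtain ⟨l, -, hl⟩ := (Nat.dvd_prime_pow Nat.prime_two).1 (hj ▸ orderOf_dvd_natCard g)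
      rcases l with _ | l
      · rw [pow_zero, orderOf_eq_one_iff] at hl
        subst hl
        have hbot : C' = ⊥ := (eq_bot_iff_forall _).2 fun a ha => by
          obtain ⟨i, hi⟩ := hgen ⟨a, ha⟩
          have h' : q 1 ^ i = a := congrArg Subtype.val hi
          rw [← h', map_one, one_zpow]
        rw [hbot, index_bot] at hC'i
        omega
      set v := g ^ (2 ^ l)
      have hv : orderOf v = 2 := by
        rw [orderOf_pow_of_dvd (by positivity) (by rw [hl]; exact pow_dvd_pow 2 (by omega)), hl,
          pow_succ, Nat.mul_div_cancel_left _ (Nat.two_pow_pos l)]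
      have hvC : v ∈ C'.comap q := pow_mem hc _
      have hvz : v ≠ x ^ 2 := fun h => hzg (h ▸ pow_mem (mem_zpowers g) _)
      have hinvC : ∀ t ∈ C'.comap q, orderOf t = 2 → t = x ^ 2 ∨ t = v ∨ t = v * x ^ 2 := by
        intro t ht ht2
        obtain ⟨i, hi⟩ := hdec t ht
        obtain ⟨u, hu, e⟩ : ∃ u ∈ Z, t = g ^ i * u := ⟨_, hi, by
          rw [mem_center_iff.1 (hZc hi) (g ^ i), inv_mul_cancel_right]⟩
        have ht1 : t ^ 2 = 1 := ht2 ▸ pow_orderOf_eq_one t
        have hgi : g ^ i * g ^ i ∈ Z := by
          have hc' : Commute u (g ^ i) := (mem_center_iff.1 (hZc hu) (g ^ i)).symm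
          have e2 : g ^ i * g ^ i = t * t * (u * u)⁻¹ := by
            rw [e, hc'.mul_mul_mul_comm, mul_inv_cancel_right]
          rw [e2, ← pow_two, ht1, one_mul]
          exact inv_mem (mul_mem hu hu)
        have hgi1 : g ^ (i + i) = 1 := by
          rw [zpow_add]
          rcases hZmem _ hgi with h | h
          · exact h
          · exact absurd (h ▸ mul_mem (zpow_mem (mem_zpowers g) i) (zpow_mem (mem_zpowers g) i)) hzg
        have hdvd := orderOf_dvd_iff_zpow_eq_one.2 hgi1
        rw [hl] at hdvd
        obtain ⟨r, hr⟩ := hdvd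
        have hi2 : i = (2 ^ l : ℕ) * r := by push_cast at hr ⊢; rw [pow_succ] at hr; linarith
        have hgv : g ^ i = 1 ∨ g ^ i = v := by
          rw [hi2, zpow_mul, zpow_natCast, zpow_eq_zpow_emod' r (hv ▸ pow_orderOf_eq_one v)]
          rcases Int.emod_two_eq_zero_or_one r with h | h
          · exact Or.inl (by rw [show r % ((2 : ℕ) : ℤ) = 0 by exact_mod_cast h, zpow_zero])
          · exact Or.inr (by rw [show r % ((2 : ℕ) : ℤ) = 1 by exact_mod_cast h, zpow_one])
        rcases hgv with h | h <;> rcases hZmem _ hu with h' | h'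
        · rw [h, h', one_mul] at e
          rw [e, orderOf_one] at ht2; omega
        · exact Or.inl (by rw [e, h, h', one_mul])
        · exact Or.inr (Or.inl (by rw [e, h, h', mul_one]))
        · exact Or.inr (Or.inr (by rw [e, h, h']))
      have hxv : x * v * x⁻¹ = v * x ^ 2 := by
        haveI := normal_of_index_eq_two (show (C'.comap q).index = 2 by
          rw [index_comap_of_surjective _ (QuotientGroup.mk'_surjective Z), hC'i])
        rcases hinvC _ (Normal.conj_mem inferInstance v hvC x)
          (by rw [Cfsg.Lib.Invol.orderOf_conj_eq, hv]) with h | h | h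
        · exfalso; apply hvz
          calc v = x⁻¹ * (x * v * x⁻¹) * x := by group
            _ = x ^ 2 := by rw [h]; group
        · exfalso; apply hvz
          have hm := hcx v ((mul_inv_eq_iff_eq_mul.1 h).symm)
          rcases eq_of_mem_zpowers_four hx hm with h' | h' | h' | h'
          · rw [h', orderOf_one] at hv; omega
          · rw [h', hx] at hv; omega
          · exact h'
          · rw [h', orderOf_inv, hx] at hv; omega
        · exact h
      apply hinv v hv
      have hvi : v⁻¹ = v := Cfsg.Lib.Invol.inv_eq_self hv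
      have h3 : x⁻¹ = x ^ 2 * x := by
        rw [← pow_succ]
        exact (eq_inv_of_mul_eq_one_left (by rw [← pow_succ]; exact hx4)).symm
      calc v * x * v⁻¹ = v⁻¹ * (x * v) := by rw [hvi, mul_assoc]
        _ = v⁻¹ * (v * x ^ 2 * x) := by rw [mul_inv_eq_iff_eq_mul.1 hxv]
        _ = x⁻¹ := by rw [h3]; group
    haveI := hCcyc
    obtain ⟨hn3, hcardT⟩ : 3 ≤ j ∧ Nat.card T = 2 ^ j := by
      refine ⟨?_, hj⟩
      by_contra h
      have hd : 4 ∣ Nat.card T := hx ▸ orderOf_dvd_natCard x
      interval_cases j <;> omega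
    have hna : ∃ c d : T, c * d ≠ d * c := ⟨b, x, fun h => hxi (by
      rw [h, mul_inv_cancel_right] at hb; exact hb.symm)⟩
    obtain ⟨a, c, ha, hca, hcase⟩ := Cfsg.Agent.S0646.result j hn3 hcardT C hCcyc hCi hna
    have hca' : ∀ g : T, g ∈ zpowers a ∨ g * c ∈ zpowers a := by
      have hi2 : (zpowers a).index = 2 := by
        have := (zpowers a).card_mul_index
        rw [Nat.card_zpowers, ha, hcardT, show (2 : ℕ) ^ j = 2 ^ (j - 1) * 2 by
          rw [← pow_succ]; congr 1; omega] at this
        exact mul_left_cancel₀ (by positivity) this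
      intro g
      by_cases hg : g ∈ zpowers a
      · exact Or.inl hg
      · exact Or.inr ((mul_mem_iff_of_index_two hi2).2 (iff_of_false hg hca))
    have hbig : 4 ≤ j → x ∉ zpowers a := by
      intro h4' hxa
      have h1 : zpowers a ≤ centralizer ({x} : Set T) := zpowers_le.2 (mem_centralizer_singleton_iff.2 (by
        obtain ⟨i, hi⟩ := hxa
        exact hi ▸ ((Commute.refl a).zpow_right i).eq))
      have h2 := Subgroup.card_le_of_le h1
      rw [hC, Nat.card_zpowers, ha] at h2
      have : 2 ^ 3 ≤ 2 ^ (j - 1) := Nat.pow_le_pow_right two_pos (by omega)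
      omega
    have hsq : ∀ (i : ℤ), c ^ 2 * c⁻¹ ^ 2 = 1 ∧ (a ^ i * c) ^ 2 = a ^ i * (c * a * c⁻¹) ^ i * c ^ 2 := by
      intro i
      refine ⟨by group, ?_⟩
      rw [conj_zpow]
      simp [pow_two, mul_assoc]
    have hout : ∀ g : T, g ∉ zpowers a → ∃ i : ℤ, g = a ^ i * c := by
      intro g hg
      obtain ⟨i, hi⟩ := (hca' g).resolve_left hg
      simp only at hi
      have hc2a : c * c ∈ zpowers a := (hca' c).resolve_left hca
      obtain ⟨r, hr⟩ := hc2a
      simp only at hr
      refine ⟨i - r, ?_⟩
      rw [zpow_sub, hi, hr, mul_inv_rev]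
      group
    have hcc : ∀ k : ℤ, c ^ 2 = 1 → ∀ i : ℤ, c * a * c⁻¹ = a ^ k → (a ^ i * c) ^ 2 = a ^ (i + k * i) := by
      intro k hc2 i hk
      rw [(hsq i).2, hk, hc2, mul_one, ← zpow_mul, ← zpow_add]
    have hzpow : ∀ i : ℤ, a ^ i = 1 ↔ ((2 ^ (j - 1) : ℕ) : ℤ) ∣ i := fun i => by
      rw [← ha]; exact orderOf_dvd_iff_zpow_eq_one.symm
    rcases hcase with ⟨hc2, hcc'⟩ | ⟨hc2, hcc'⟩ | ⟨h4', hc2, hcc'⟩ | ⟨h4', hc2, hcc'⟩
    · -- dihedral
      exfalso
      have hc2' : orderOf c = 2 := orderOf_eq_prime hc2 fun h => hca (h ▸ one_mem _)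
      have houtinv : ∀ g : T, g ∉ zpowers a → g ^ 2 = 1 := fun g hg => by
        obtain ⟨i, rfl⟩ := hout g hg
        rw [hcc (-1) hc2 i (by rw [hcc', zpow_neg_one]), neg_one_mul, add_neg_cancel, zpow_zero]
      have hxa : x ∈ zpowers a := by
        by_contra h
        have := Nat.le_of_dvd two_pos (orderOf_dvd_of_pow_eq_one (houtinv x h))
        omega
      obtain ⟨i, hi⟩ := hxa
      exact hinv c hc2' (by rw [← hi]; simp only; rw [← conj_zpow, hcc', inv_zpow])
    · -- quaternion
      refine Or.inl fun t ht => ?_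
      have ht1 : t ^ 2 = 1 := ht ▸ pow_orderOf_eq_one t
      have hta : t ∈ zpowers a := by
        by_contra h
        obtain ⟨i, rfl⟩ := hout t h
        have e : c ^ 2 = 1 := by
          rw [(hsq i).2, hcc', inv_zpow', ← zpow_add, add_neg_cancel, zpow_zero, one_mul] at ht1
          exact ht1
        rw [hc2, ← zpow_natCast, hzpow] at e
        have : (2 ^ (j - 1) : ℕ) ∣ 2 ^ (j - 2) := by exact_mod_cast e
        rw [Nat.pow_dvd_pow_iff_le_right (by norm_num)] at this
        omega
      have hxz : x ^ 2 ∈ zpowers a := pow_two x ▸ mul_mem_iff_of_index_two (by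
        have := (zpowers a).card_mul_index
        rw [Nat.card_zpowers, ha, hcardT, show (2 : ℕ) ^ j = 2 ^ (j - 1) * 2 by
          rw [← pow_succ]; congr 1; omega] at this
        exact mul_left_cancel₀ (by positivity) this) |>.2 Iff.rfl
      haveI : IsCyclic (zpowers a) := inferInstance
      have key : ∀ s ∈ zpowers a, orderOf s = 2 → s = a ^ (2 ^ (j - 2)) := by
        rintro s ⟨i, rfl⟩ hs
        have h1 : a ^ (i + i) = 1 := by
          rw [zpow_add, ← pow_two]; exact hs ▸ pow_orderOf_eq_one _
        obtain ⟨r, hr⟩ := (hzpow _).1 h1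
        have hi2 : i = (2 ^ (j - 2) : ℕ) * r := by
          rw [show j - 1 = j - 2 + 1 by omega] at hr
          push_cast at hr ⊢
          rw [pow_succ] at hr
          linarith
        rcases Int.even_or_odd' r with ⟨r', rfl | rfl⟩
        · exfalso
          have : a ^ i = 1 := (hzpow i).2 ⟨r', by
            rw [hi2, show j - 1 = j - 2 + 1 by omega]; push_cast; ring⟩
          simp only at hs
          rw [this, orderOf_one] at hs
          omega
        · show a ^ i = _
          rw [← zpow_natCast a, eq_comm, ← mul_inv_eq_one, ← zpow_neg, ← zpow_add]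
          exact (hzpow _).2 ⟨-r', by
            rw [hi2, show j - 1 = j - 2 + 1 by omega]; push_cast; ring⟩
      rw [key t hta ht, key _ hxz hz2]
    · -- modular
      exfalso
      have h2 : a ^ 2 ∈ center T := by
        rw [mem_center_iff]
        intro g
        have hc : Commute c (a ^ 2) := by
          refine mul_inv_eq_iff_eq_mul.1 ?_
          rw [← conj_pow, hcc', ← pow_mul, Nat.add_mul, one_mul, pow_add, ← pow_succ,
            show j - 2 + 1 = j - 1 by omega, ← ha, pow_orderOf_eq_one, mul_one]
        rcases hca' g with ⟨i, hi⟩ | ⟨i, hi⟩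
        · exact hi ▸ ((Commute.refl a).zpow_left i).pow_right 2
        · rw [eq_mul_inv_of_mul_eq hi.symm]
          exact (((Commute.refl a).zpow_left i).pow_right 2).mul_left hc.inv_left
      have hm : zpowers (a ^ 2) ≤ zpowers x :=
        zpowers_le.2 (hcx _ ((mem_center_iff.1 h2 x).symm))
      have ho : orderOf (a ^ 2) = 2 ^ (j - 2) := by
        rw [orderOf_pow_of_dvd two_ne_zero (by rw [ha]; exact dvd_pow_self 2 (by omega)), ha,
          show j - 1 = j - 2 + 1 by omega, pow_succ, Nat.mul_div_cancel _ two_pos]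
      have heq := eq_of_le_of_card_ge hm (by
        rw [Nat.card_zpowers, Nat.card_zpowers, ho, hx]
        exact le_trans (by norm_num) (Nat.pow_le_pow_right two_pos (by omega : 2 ≤ j - 2)))
      exact hbig h4' (zpowers_le.2 (pow_mem (mem_zpowers a) 2) (heq ▸ mem_zpowers x))
    · -- semidihedral
      refine Or.inr ?_
      obtain ⟨E, hE⟩ : ∃ E : ℕ, E = 2 ^ (j - 2) := ⟨_, rfl⟩
      have hE2 : 2 ∣ E := hE ▸ dvd_pow_self 2 (by omega)
      have hE1 : 2 ^ (j - 1) = 2 * E := by rw [hE, ← pow_succ']; congr 1; omega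
      rw [← hE] at hcc'
      have hEpos : 0 < E := hE ▸ Nat.two_pow_pos _
      have hk : c * a * c⁻¹ = a ^ ((E : ℤ) - 1) := by
        rw [hcc', ← zpow_natCast, Nat.cast_sub (by omega)]; rfl
      have hsqout : ∀ i : ℤ, (a ^ i * c) ^ 2 = 1 ↔ Even i := by
        intro i
        rw [hcc _ hc2 i hk, show i + ((E : ℤ) - 1) * i = (E : ℤ) * i by ring, hzpow, hE1,
          Nat.cast_mul, mul_comm ((2 : ℕ) : ℤ), mul_dvd_mul_iff_left (by exact_mod_cast hEpos.ne'),
          even_iff_two_dvd]
        rfl
      have hev : ∀ i : ℤ, Even i → a ^ i ∈ zpowers (a ^ 2) := fun i ⟨r, hr⟩ =>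
        ⟨r, by show (a ^ 2) ^ r = _; rw [← zpow_natCast a 2, ← zpow_mul, hr]; congr 1; ring⟩
      set M := zpowers (a ^ 2) ⊔ zpowers c with hMdef
      haveI : (zpowers (a ^ 2)).Normal := ⟨by
        rintro _ ⟨r, rfl⟩ g
        show g * (a ^ 2) ^ r * g⁻¹ ∈ _
        rw [← conj_zpow]
        refine zpow_mem ?_ r
        rcases hca' g with ⟨i, hi⟩ | ⟨i, hi⟩
        · simp only at hi
          rw [← hi, (((Commute.refl a).zpow_left i).pow_right 2).eq, mul_inv_cancel_right]
          exact mem_zpowers _
        · simp only at hi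
          rw [eq_mul_inv_of_mul_eq hi.symm,
            inv_eq_of_mul_eq_one_right (pow_two c ▸ hc2 : c * c = 1),
            show a ^ i * c * a ^ 2 * (a ^ i * c)⁻¹ = a ^ i * (c * a ^ 2 * c⁻¹) * (a ^ i)⁻¹ by group,
            ← conj_pow, hk, ← zpow_natCast (a ^ _) 2, ← zpow_mul, ← zpow_add, ← zpow_neg,
            ← zpow_add]
          exact hev _ ⟨(E : ℤ) - 1, by push_cast; ring⟩⟩
      have hMmem : ∀ g ∈ M, ∃ r : ℤ, g = a ^ (2 * r) ∨ g = a ^ (2 * r) * c := by
        intro g hg
        rw [hMdef, ← SetLike.mem_coe, normal_mul] at hg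
        obtain ⟨u, ⟨r, rfl⟩, v, hv, rfl⟩ := hg
        refine ⟨r, ?_⟩
        have hu : (a ^ 2) ^ r = a ^ (2 * r) := by rw [← zpow_natCast a 2, ← zpow_mul]; rfl
        simp only [hu]
        obtain ⟨n, rfl⟩ := (IsOfFinOrder.mem_powers_iff_mem_zpowers (isOfFinOrder_of_finite c)).2 hv
        rcases Nat.even_or_odd' n with ⟨l, rfl | rfl⟩
        · exact Or.inl (by show _ * c ^ (2 * l) = _; rw [pow_mul, hc2, one_pow, mul_one])
        · exact Or.inr (by show _ * c ^ (2 * l + 1) = _; rw [pow_succ, pow_mul, hc2, one_pow, one_mul])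
      have haM : ∀ i : ℤ, a ^ i ∈ M → Even i := by
        intro i hi
        obtain ⟨r, hr | hr⟩ := hMmem _ hi
        · have h1 : a ^ (i - 2 * r) = 1 := by rw [zpow_sub, hr, mul_inv_cancel]
          rw [hzpow, hE1] at h1
          obtain ⟨s, hs⟩ := h1
          exact ⟨r + E * s, by push_cast at hs; linarith⟩
        · exfalso
          apply hca
          have : c = (a ^ (2 * r))⁻¹ * a ^ i := by rw [hr, inv_mul_cancel_left]
          exact (this ▸ mul_mem (inv_mem (zpow_mem (mem_zpowers a) _)) (zpow_mem (mem_zpowers a) _))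
      have hcM : c⁻¹ ∈ M := mem_sup_right (inv_mem (mem_zpowers c))
      have hxout := hbig h4'
      refine ⟨M, ?_, ?_, ?_, ?_⟩
      · refine index_eq_two_iff.2 ⟨a, fun g => ?_⟩
        have haM' : a ∉ M := fun h => by
          have := haM 1 (by rwa [zpow_one])
          exact absurd this (by decide)
        have hcm : c ∈ M := mem_sup_right (mem_zpowers c)
        have hgen : ∀ i : ℤ, a ^ i ∈ M ∨ a ^ i * a ∈ M := fun i => by
          rcases Int.even_or_odd i with h | h
          · exact Or.inl (mem_sup_left (hev i h))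
          · exact Or.inr (by rw [← zpow_add_one]; exact mem_sup_left (hev _ (h.add_odd odd_one)))
        have hboth : ∀ g : T, g ∈ M → g * a ∉ M := fun g hg hga =>
          haM' (by have := mul_mem (inv_mem hg) hga; rwa [inv_mul_cancel_left] at this)
        have hor : g ∈ M ∨ g * a ∈ M := by
          rcases hca' g with ⟨i, hi⟩ | ⟨i, hi⟩
          · exact hi ▸ hgen i
          · simp only at hi
            rw [eq_mul_inv_of_mul_eq hi.symm]
            rcases Int.even_or_odd i with h | h
            · exact Or.inl (mul_mem (mem_sup_left (hev i h)) hcM)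
            · refine Or.inr ?_
              have hci : c⁻¹ = c := inv_eq_of_mul_eq_one_right (pow_two c ▸ hc2)
              have e : a ^ i * c⁻¹ * a = a ^ (i + ((E : ℤ) - 1)) * c⁻¹ := by
                rw [zpow_add, ← hk, hci]
                simp only [mul_assoc]
                rw [← pow_two, hc2, mul_one]
              rw [e]
              refine mul_mem (mem_sup_left (hev _ ?_)) hcM
              obtain ⟨e', he'⟩ := hE2
              rw [he']; push_cast
              obtain ⟨q', rfl⟩ := h
              exact ⟨q' + e', by ring⟩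
        rcases hor with h | h
        · exact Or.inr ⟨h, hboth g h⟩
        · exact Or.inl ⟨h, fun hg => hboth g hg h⟩
      · intro hxM
        obtain ⟨r, hr | hr⟩ := hMmem _ hxM
        · exact hxout (hr ▸ zpow_mem (mem_zpowers a) _)
        · have := orderOf_dvd_of_pow_eq_one (hr ▸ (hsqout _).2 (even_two_mul r) : x ^ 2 = 1)
          have := Nat.le_of_dvd two_pos this
          omega
      · intro t ht
        have ht1 : t ^ 2 = 1 := ht ▸ pow_orderOf_eq_one t
        by_cases hta : t ∈ zpowers a
        · obtain ⟨i, rfl⟩ := hta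
          refine mem_sup_left (hev i ?_)
          have h1 : a ^ (i * 2) = 1 := by rw [zpow_mul]; exact_mod_cast ht1
          rw [hzpow, hE1] at h1
          obtain ⟨s, hs⟩ := h1
          obtain ⟨e', he'⟩ := hE2
          exact ⟨e' * s, by rw [he'] at hs; push_cast at hs; linarith⟩
        · obtain ⟨i, rfl⟩ := hout t hta
          exact mul_mem (mem_sup_left (hev i ((hsqout i).1 ht1))) (mem_sup_right (mem_zpowers c))
      · intro t htM ht
        obtain ⟨r, rfl | rfl⟩ := hMmem _ htM
        · refine le_trans ?_ (Subgroup.card_le_of_le (zpowers_le.2 (mem_centralizer_singleton_iff.2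
            ((Commute.refl a).zpow_right (2 * r)).eq) : zpowers a ≤ _))
          rw [Nat.card_zpowers, ha]
          exact le_trans (by norm_num) (Nat.pow_le_pow_right two_pos (by omega : 3 ≤ j - 1))
        · exfalso
          have := orderOf_dvd_of_pow_eq_one ((hsqout _).2 (even_two_mul r))
          have := Nat.le_of_dvd two_pos this
          omega

end

section
variable {G : Type u} [Group G] [Finite G] [IsSimpleGroup G]

theorem center_eq_bot (hG : ¬ IsCyclic G) : center G = ⊥ := by
  refine ((inferInstance : (center G).Normal).eq_bot_or_eq_top).resolve_right fun h => hG ?_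
  let _ : CommGroup G := { (inferInstance : Group G) with
    mul_comm := fun a b => (mem_center_iff.mp (h ▸ mem_top b) a) }
  exact IsSimpleGroup.isCyclic

theorem oddCore_eq_bot (hG : ¬ IsCyclic G) {z : G} (hz : orderOf z = 2) : oddCore G = ⊥ :=
  ((inferInstance : (oddCore G).Normal).eq_bot_or_eq_top).resolve_right fun h =>
    ZStar.notMem_oddCore hz (h ▸ mem_top z)

/-- In a simple group a Sylow 2-subgroup has more than one involution. -/
theorem exists_second_involution (hG : ¬ IsCyclic G) (S : Sylow 2 G) {z : G} (hz : orderOf z = 2) :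
    ∃ t ∈ (S : Subgroup G), orderOf t = 2 ∧ t ≠ z := by
  by_contra h
  push Not at h
  have hiso := ZStar.isolated_of_unique_involution S hz h
  have hc : z ∈ center G := mem_center_iff.2 fun g =>
    (ZStar.commute_of_oddCore_bot (oddCore_eq_bot hG hz) (ZStar.zStarHolds G z hiso g)).symm
  rw [center_eq_bot hG, mem_bot] at hc
  exact Invol.ne_one hz hc

/-- The Sylow 2-subgroups are dihedral of order eight. -/
theorem exists_dihedral_sylow (hG : ¬ IsCyclic G) {w : G} (hw : orderOf w = 4)
    (hC : Nat.card (centralizer ({w} : Set G)) = 4) :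
    ∃ (S : Sylow 2 G) (τ : G), w ∈ (S : Subgroup G) ∧ τ ∈ (S : Subgroup G) ∧
      Nat.card (S : Subgroup G) = 8 ∧ orderOf τ = 2 ∧ τ * w * τ⁻¹ = w⁻¹ := by
  classical
  haveI : Fact (Nat.Prime 2) := ⟨Nat.prime_two⟩
  obtain ⟨S, hS⟩ := (IsPGroup.of_card (n := 2) (by rw [Nat.card_zpowers, hw]; rfl) :
    IsPGroup 2 (zpowers w)).exists_le_sylow
  have hwS : w ∈ (S : Subgroup G) := hS (mem_zpowers w)
  have hCw : centralizer ({w} : Set G) = zpowers w := centralizer_eq_zpowers (by omega)
  set x : (S : Subgroup G) := ⟨w, hwS⟩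
  have hx : orderOf x = 4 := by rw [orderOf_mk, hw]
  have hCx : Nat.card (centralizer ({x} : Set (S : Subgroup G))) = 4 := by
    refine le_antisymm ?_ ?_
    · rw [← hC]
      exact Nat.card_le_card_of_injective (fun a => (⟨a.1.1, mem_centralizer_singleton_iff.2
          (congrArg Subtype.val (mem_centralizer_singleton_iff.1 a.2))⟩ : centralizer ({w} : Set G)))
        fun a b h => Subtype.ext (Subtype.ext (congrArg (fun c : centralizer ({w} : Set G) => (c : G)) h))
    · rw [← hx, ← Nat.card_zpowers]
      exact card_le_of_le (zpowers_le.2 (mem_centralizer_singleton_iff.2 rfl))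
  have h4 : Nat.card (S : Subgroup G) ≠ 4 := by
    intro h4
    have heq : (S : Subgroup G) = zpowers w :=
      (eq_of_le_of_card_ge hS (by rw [h4, Nat.card_zpowers, hw])).symm
    refine Small.not_normalizer_le_centralizer hG S (fun h => ?_) ?_
    · rw [h, mem_bot] at hwS
      rw [hwS, orderOf_one] at hw
      omega
    intro g hg
    rw [heq] at hg ⊢
    rw [Small.centralizer_zpowers, mem_centralizer_singleton_iff]
    have h1 : g * w * g⁻¹ ∈ zpowers w := (mem_normalizer_iff.1 hg w).1 (mem_zpowers w)
    have ho : orderOf (g * w * g⁻¹) = 4 := by rw [Invol.orderOf_conj_eq, hw]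
    rcases eq_of_mem_zpowers_four hw h1 with e | e | e | e
    · rw [e, orderOf_one] at ho; omega
    · exact mul_inv_eq_iff_eq_mul.1 e
    · rw [e, orderOf_pow' w two_ne_zero, hw] at ho; simp at ho
    · exfalso
      -- the 2-part of `g` lies in the Sylow subgroup, the odd part fixes `w`
      obtain ⟨k, m, hm, hkm⟩ := Nat.exists_eq_two_pow_mul_odd (orderOf_pos g).ne'
      have hfix : ∀ n : ℕ, g ^ n * w * (g ^ n)⁻¹ = if Even n then w else w⁻¹ := by
        intro n
        induction n with
        | zero => simp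
        | succ n ih =>
          rw [pow_succ', show g * g ^ n * w * (g * g ^ n)⁻¹ = g * (g ^ n * w * (g ^ n)⁻¹) * g⁻¹ by
            group, ih]
          by_cases hn : Even n
          · rw [if_pos hn, if_neg (Nat.even_add_one.not.2 (not_not.2 hn)), e]
          · rw [if_neg hn, if_pos (Nat.even_add_one.2 hn), ← conj_inv, e, inv_inv]
      have hu : g ^ m ∈ zpowers w := by
        have hp : IsPGroup 2 (zpowers (g ^ m)) := IsPGroup.of_card (n := k) (by
          rw [Nat.card_zpowers, orderOf_pow_of_dvd hm.pos.ne' (hkm ▸ dvd_mul_left m _), hkm,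
            Nat.mul_div_cancel _ hm.pos])
        have hN : g ^ m ∈ normalizer (zpowers w : Set G) := pow_mem hg m
        have hle : zpowers (g ^ m) ≤ normalizer ((S : Subgroup G) : Set G) := by
          rw [heq]; exact zpowers_le.2 hN
        have hsup := hp.to_sup_of_normal_right' S.isPGroup' hle
        have := S.is_maximal' hsup le_sup_right
        rw [← heq, ← this]
        exact mem_sup_left (mem_zpowers _)
      have h2 := hfix m
      rw [if_neg (Nat.not_even_iff_odd.2 hm)] at h2
      obtain ⟨i, hi⟩ := hu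
      simp only at hi
      rw [← hi, ((Commute.refl w).zpow_left i).eq, mul_inv_cancel_right] at h2
      have := orderOf_dvd_of_pow_eq_one (show w ^ 2 = 1 by
        rw [pow_two]; nth_rw 1 [h2]; exact inv_mul_cancel w)
      rw [hw] at this
      omega
  rcases twoGroup_shape S.isPGroup' hx hCx h4 with ⟨h8, y, hy, hyx⟩ | h | ⟨M, hMi, hxM, hinv, hfour⟩
  · exact ⟨S, y, hwS, y.2, h8, by rw [orderOf_coe, hy], congrArg Subtype.val hyx⟩
  · exfalso
    have hz : orderOf (w ^ 2) = 2 := by rw [orderOf_pow' w two_ne_zero, hw]; rfl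
    obtain ⟨t, htS, ht, htz⟩ := exists_second_involution hG S hz
    exact htz (congrArg Subtype.val (h ⟨t, htS⟩ (by rw [orderOf_mk, ht])))
  · exfalso
    haveI := normal_of_index_eq_two hMi
    haveI : IsCyclic (↥(S : Subgroup G) ⧸ M) := isCyclic_of_prime_card (p := 2) hMi
    letI : CommGroup (↥(S : Subgroup G) ⧸ M) := IsCyclic.commGroup
    let φ : ↥(S : Subgroup G) →* ↥(S : Subgroup G) ⧸ M := QuotientGroup.mk' M
    set t := φ x with ht
    have ht1 : t ≠ 1 := fun h => hxM ((QuotientGroup.eq_one_iff _).1 h)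
    have hall : ∀ y, y = 1 ∨ y = t := fun y => by
      obtain ⟨y₀, -, hu⟩ := (Nat.card_eq_two_iff' (1 : ↥(S : Subgroup G) ⧸ M)).1 hMi
      by_cases hy : y = 1
      · exact Or.inl hy
      · exact Or.inr (by rw [hu y hy, hu t ht1])
    have ht2 : t ^ 2 = 1 := by
      rcases hall (t ^ 2) with h | h
      · exact h
      · exact absurd (mul_left_cancel (a := t) (by rw [mul_one, ← pow_two]; exact h)) ht1
    have hw4 : w ^ 4 = 1 := hw ▸ pow_orderOf_eq_one w
    have hterm : ∀ (p : ℕ) (a : G) (ha : a⁻¹ * w ^ p * a ∈ (S : Subgroup G)), p ∣ 4 →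
        φ ⟨a⁻¹ * w ^ p * a, ha⟩ = t ^ p := by
      intro p a ha hp
      have hp4 : p ≤ 4 := Nat.le_of_dvd (by norm_num) hp
      have ho : orderOf (⟨a⁻¹ * w ^ p * a, ha⟩ : ↥(S : Subgroup G)) = orderOf (w ^ p) := by
        rw [orderOf_mk]
        simpa using Invol.orderOf_conj_eq a⁻¹ (w ^ p)
      interval_cases p
      · omega
      · rw [pow_one t]
        refine (hall _).resolve_left fun h => ?_
        have h8 := hfour _ ((QuotientGroup.eq_one_iff _).1 h) (by rw [ho, pow_one, hw])
        let f : centralizer ({(⟨a⁻¹ * w ^ 1 * a, ha⟩ : ↥(S : Subgroup G))} : Set (S : Subgroup G)) →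
            centralizer ({w} : Set G) := fun c => ⟨a * c.1.1 * a⁻¹, mem_centralizer_singleton_iff.2 (by
          have e : (c.1.1 : G) * (a⁻¹ * w ^ 1 * a) = (a⁻¹ * w ^ 1 * a) * c.1.1 :=
            congrArg Subtype.val (mem_centralizer_singleton_iff.1 c.2)
          calc a * c.1.1 * a⁻¹ * w = a * (c.1.1 * (a⁻¹ * w ^ 1 * a)) * a⁻¹ := by group
            _ = a * ((a⁻¹ * w ^ 1 * a) * c.1.1) * a⁻¹ := by rw [e]
            _ = w * (a * c.1.1 * a⁻¹) := by group)⟩
        have := Nat.card_le_card_of_injective f fun c d h => Subtype.ext (Subtype.ext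
          (mul_left_cancel (mul_right_cancel (congrArg Subtype.val h))))
        omega
      · rw [ht2]
        refine (QuotientGroup.eq_one_iff _).2 (hinv _ ?_)
        rw [ho, orderOf_pow' w two_ne_zero, hw]
        rfl
      · omega
      · rw [show t ^ 4 = 1 by rw [show (4 : ℕ) = 2 * 2 by norm_num, pow_mul t, ht2, one_pow]]
        refine (QuotientGroup.eq_one_iff _).2 ?_
        rw [show (⟨a⁻¹ * w ^ 4 * a, ha⟩ : ↥(S : Subgroup G)) = 1 from Subtype.ext ?_]
        · exact one_mem M
        show a⁻¹ * w ^ 4 * a = 1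
        rw [hw4, mul_one, inv_mul_cancel]
    letI := (S : Subgroup G).fintypeQuotientOfFiniteIndex
    have hV : MonoidHom.transfer φ w = t := by
      rw [MonoidHom.transfer_eq_prod_quotient_orbitRel_zpowers_quot,
        Finset.prod_congr rfl (fun q _ => hterm _ _ _ ?_), Finset.prod_pow_eq_pow_sum,
        ← index_eq_sum_minimalPeriod]
      · obtain ⟨i, hi⟩ : Odd (S : Subgroup G).index :=
          Nat.not_even_iff_odd.1 fun he => S.not_dvd_index he.two_dvd
        rw [hi, pow_succ, pow_mul, ht2, one_pow, one_mul]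
      · refine Function.IsPeriodicPt.minimalPeriod_dvd ?_
        show (fun c => w • c)^[4] _ = _
        rw [smul_iterate, hw4]
        exact one_smul _ _
    rcases (MonoidHom.transfer φ).normal_ker.eq_bot_or_eq_top with hk | hk
    · have hinj := (MonoidHom.ker_eq_bot_iff _).1 hk
      have h1 := Nat.card_le_card_of_injective _ hinj
      have h2 : Nat.card (centralizer ({w} : Set G)) ≤ Nat.card G := card_le_card_group _
      have h3 : Nat.card (↥(S : Subgroup G) ⧸ M) = 2 := hMi
      omega
    · exact ht1 (hV ▸ MonoidHom.mem_ker.1 (hk ▸ mem_top w))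

end

end Cfsg.Lib.SmallCent
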