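import Cfsg.Agent.S0107
import Cfsg.Agent.S0206
import Cfsg.Agent.S0514
import Cfsg.Agent.Lib.SmallCent.TwoGroup

/-!
The centralizer of an involution in a simple group with dihedral Sylow 2-subgroups of order eight
and a self-centralizing element of order four.
-/

set_option autoImplicit false

namespace Cfsg.Lib.SmallCent

open Subgroup

universe u

/-- A Sylow 2-subgroup of order eight, with generators. -/
structure Setup (G : Type u) [Group G] where
  S : Sylow 2 G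
  w : G
  τ : G
  hwS : w ∈ (S : Subgroup G)
  hτS : τ ∈ (S : Subgroup G)
  hS8 : Nat.card (S : Subgroup G) = 8
  hw : orderOf w = 4
  hτ : orderOf τ = 2
  hrel : τ * w * τ⁻¹ = w⁻¹
  hC : Nat.card (centralizer ({w} : Set G)) = 4

namespace Setup

variable {G : Type u} [Group G] [Finite G] (d : Setup G)

/-- The central involution. -/
def z : G := d.w ^ 2

omit [Finite G] in
theorem w_pow_four : d.w ^ 4 = 1 := d.hw ▸ pow_orderOf_eq_one d.w

omit [Finite G] in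
theorem z_order : orderOf d.z = 2 := by rw [z, orderOf_pow' d.w two_ne_zero, d.hw]; rfl

omit [Finite G] in
theorem τ_sq : d.τ * d.τ = 1 := Invol.inv_mul_self d.hτ

omit [Finite G] in
theorem τ_inv : d.τ⁻¹ = d.τ := Invol.inv_eq_self d.hτ

omit [Finite G] in
theorem z_inv : d.z⁻¹ = d.z := Invol.inv_eq_self d.z_order

omit [Finite G] in
theorem z_sq : d.z * d.z = 1 := Invol.inv_mul_self d.z_order

omit [Finite G] in
theorem w_inv : d.w⁻¹ = d.z * d.w := by
  refine inv_eq_of_mul_eq_one_left ?_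
  rw [z, mul_assoc, ← pow_two, ← pow_add]
  exact d.w_pow_four

omit [Finite G] in
theorem w_z : Commute d.w d.z := Commute.self_pow d.w 2

omit [Finite G] in
theorem τ_z : Commute d.τ d.z := by
  refine mul_inv_eq_iff_eq_mul.1 ?_
  rw [z, ← conj_pow, d.hrel, inv_pow, ← z]
  exact d.z_inv

omit [Finite G] in
theorem τ_w : d.τ * d.w = d.z * d.w * d.τ := by
  rw [← d.w_inv]; exact mul_inv_eq_iff_eq_mul.1 d.hrel

omit [Finite G] in
theorem zS : d.z ∈ (d.S : Subgroup G) := pow_mem d.hwS 2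

omit [Finite G] in
theorem wτ_sq : d.w * d.τ * (d.w * d.τ) = 1 := by
  calc d.w * d.τ * (d.w * d.τ) = d.w * (d.τ * d.w * d.τ⁻¹) := by rw [d.τ_inv]; group
    _ = 1 := by rw [d.hrel, mul_inv_cancel]

omit [Finite G] in
theorem τ_notMem : d.τ ∉ zpowers d.w := fun h => by
  obtain ⟨i, hi⟩ := h
  have hc : Commute d.τ d.w := hi ▸ (Commute.refl d.w).zpow_left i
  have := d.hrel
  rw [hc.eq, mul_inv_cancel_right] at this
  have h2 := orderOf_dvd_of_pow_eq_one (show d.w ^ 2 = 1 by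
    rw [pow_two]; exact mul_eq_one_iff_eq_inv.2 this)
  rw [d.hw] at h2
  omega

omit [Finite G] in
theorem wτ_order : orderOf (d.w * d.τ) = 2 := by
  refine Invol.orderOf_eq_two_of (fun h => d.τ_notMem ?_) d.wτ_sq
  rw [eq_inv_of_mul_eq_one_right h]
  exact inv_mem (mem_zpowers _)

/-- The same data with the other class of noncentral involutions. -/
def swap : Setup G where
  S := d.S
  w := d.w
  τ := d.w * d.τ
  hwS := d.hwS
  hτS := mul_mem d.hwS d.hτS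
  hS8 := d.hS8
  hw := d.hw
  hτ := d.wτ_order
  hrel := by
    rw [show d.w * d.τ * d.w * (d.w * d.τ)⁻¹ = d.w * (d.τ * d.w * d.τ⁻¹) * d.w⁻¹ by group, d.hrel,
      mul_inv_cancel, one_mul]
  hC := d.hC

omit [Finite G] in
theorem swap_z : d.swap.z = d.z := rfl

theorem mem_zpowers_w {g : G} : g * d.w = d.w * g → g ∈ zpowers d.w := fun h => by
  rw [← centralizer_eq_zpowers (x := d.w) (by rw [d.hC, d.hw])]
  exact mem_centralizer_singleton_iff.2 h

/-- The eight elements of the Sylow subgroup. -/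
theorem mem_S {s : G} (hs : s ∈ (d.S : Subgroup G)) :
    (s ∈ zpowers d.w) ∨ s * d.τ ∈ zpowers d.w := by
  have hle : zpowers d.w ≤ (d.S : Subgroup G) := zpowers_le.2 d.hwS
  have hidx : ((zpowers d.w).subgroupOf (d.S : Subgroup G)).index = 2 := by
    have h := ((zpowers d.w).subgroupOf (d.S : Subgroup G)).card_mul_index
    rw [Nat.card_congr (subgroupOfEquivOfLe hle).toEquiv, Nat.card_zpowers, d.hw, d.hS8] at h
    omega
  by_cases h : s ∈ zpowers d.w
  · exact Or.inl h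
  · exact Or.inr ((mul_mem_iff_of_index_two hidx (a := ⟨s, hs⟩) (b := ⟨d.τ, d.hτS⟩)).2
      (iff_of_false h d.τ_notMem))

theorem mem_S_cases {s : G} (hs : s ∈ (d.S : Subgroup G)) :
    (s = 1 ∨ s = d.z ∨ s = d.τ ∨ s = d.z * d.τ) ∨
    (s = d.w ∨ s = d.w⁻¹ ∨ s = d.w * d.τ ∨ s = d.z * (d.w * d.τ)) := by
  rcases d.mem_S hs with h | h
  · rcases eq_of_mem_zpowers_four d.hw h with e | e | e | e
    · exact Or.inl (Or.inl e)
    · exact Or.inr (Or.inl e)
    · exact Or.inl (Or.inr (Or.inl e))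
    · exact Or.inr (Or.inr (Or.inl e))
  · have hs' : s = s * d.τ * d.τ := by rw [mul_assoc, d.τ_sq, mul_one]
    rcases eq_of_mem_zpowers_four d.hw h with e | e | e | e <;> rw [e] at hs'
    · exact Or.inl (Or.inr (Or.inr (Or.inl (by rw [hs', one_mul]))))
    · exact Or.inr (Or.inr (Or.inr (Or.inl hs')))
    · exact Or.inl (Or.inr (Or.inr (Or.inr hs')))
    · exact Or.inr (Or.inr (Or.inr (Or.inr (by rw [hs', d.w_inv, mul_assoc]))))

theorem involution_S {s : G} (hs : s ∈ (d.S : Subgroup G)) (h2 : orderOf s = 2) :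
    s = d.z ∨ s = d.τ ∨ s = d.z * d.τ ∨ s = d.w * d.τ ∨ s = d.z * (d.w * d.τ) := by
  rcases d.mem_S_cases hs with (e | e | e | e) | e | e | e | e
  · rw [e, orderOf_one] at h2; omega
  · exact Or.inl e
  · exact Or.inr (Or.inl e)
  · exact Or.inr (Or.inr (Or.inl e))
  · rw [e, d.hw] at h2; omega
  · rw [e, orderOf_inv, d.hw] at h2; omega
  · exact Or.inr (Or.inr (Or.inr (Or.inl e)))
  · exact Or.inr (Or.inr (Or.inr (Or.inr e)))

theorem isDihedral : Nonempty ((d.S : Subgroup G) ≃* DihedralGroup (2 ^ 2)) := by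
  obtain ⟨e⟩ := Cfsg.Agent.S0206.result d.τ (d.τ * d.w) d.hτ (by
    refine Invol.orderOf_eq_two_of (fun h => d.τ_notMem ?_) ?_
    · rw [eq_inv_of_mul_eq_one_left h]; exact inv_mem (mem_zpowers _)
    · calc d.τ * d.w * (d.τ * d.w) = d.τ * (d.w * d.τ * (d.w * d.τ)) * d.τ⁻¹ := by group
        _ = 1 := by rw [d.wτ_sq, mul_one, mul_inv_cancel])
    (fun h => by
      have := d.hw
      rw [mul_eq_left.1 h.symm, orderOf_one] at this
      omega)
  have ho : orderOf (d.τ * (d.τ * d.w)) = 2 ^ 2 := by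
    rw [← mul_assoc, d.τ_sq, one_mul, d.hw]; norm_num
  rw [ho] at e
  have heq : closure ({d.τ, d.τ * d.w} : Set G) = (d.S : Subgroup G) := by
    refine eq_of_le_of_card_ge ((closure_le _).2 ?_) ?_
    · rintro g (rfl | rfl)
      · exact d.hτS
      · exact mul_mem d.hτS d.hwS
    · rw [Nat.card_congr e.toEquiv, DihedralGroup.nat_card, d.hS8]; norm_num
  exact ⟨(MulEquiv.subgroupCongr heq.symm).trans e⟩

/-- The odd core of the centralizer of `z`, as a subgroup of `G`. -/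
def core : Subgroup G := closure {y | Odd (orderOf y) ∧ Commute y d.z}

omit [Finite G] in
theorem swap_core : d.swap.core = d.core := rfl

/-- The centralizer of `τ` in the core. -/
def A : Subgroup G := d.core ⊓ centralizer ({d.τ} : Set G)

variable [IsSimpleGroup G] (hG : ¬ IsCyclic G)
include d hG

theorem oneClass {x y : G} (hx : orderOf x = 2) (hy : orderOf y = 2) :
    ∃ g : G, g * x * g⁻¹ = y := by
  refine Cfsg.Agent.S0107.result d.S 2 le_rfl d.isDihedral ?_ x y hx hy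
  refine ((inferInstance : (Cfsg.pResidual 2 G).Normal).eq_bot_or_eq_top).resolve_left fun h => ?_
  have hp : IsPGroup 2 G := by
    intro g
    obtain ⟨k, m, hm, hkm⟩ := Nat.exists_eq_two_pow_mul_odd (orderOf_pos g).ne'
    refine ⟨k, ?_⟩
    have : g ^ 2 ^ k ∈ Cfsg.pResidual 2 G := subset_closure (by
      show Nat.Coprime (orderOf (g ^ 2 ^ k)) 2
      rw [orderOf_pow_of_dvd (Nat.two_pow_pos k).ne' (hkm ▸ dvd_mul_right _ m), hkm,
        Nat.mul_div_cancel_left _ (Nat.two_pow_pos k)]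
      exact Nat.coprime_two_right.2 hm)
    rwa [h, mem_bot] at this
  haveI : Fact (Nat.Prime 2) := ⟨Nat.prime_two⟩
  have h := center_eq_bot hG
  haveI : Nontrivial G := IsSimpleGroup.toNontrivial
  exact bot_lt_iff_ne_bot.mp hp.bot_lt_center h

omit hG [IsSimpleGroup G] in
theorem core_spec :
    (∀ y, y ∈ d.core ↔ Odd (orderOf y) ∧ Commute y d.z) ∧ Odd (Nat.card d.core) ∧
    (∀ c, Commute c d.z → ∀ y ∈ d.core, c * y * c⁻¹ ∈ d.core) ∧
    Nat.card (centralizer ({d.z} : Set G)) = 8 * Nat.card d.core ∧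
    (∀ c, Commute c d.z → ∃ y ∈ d.core, ∃ s ∈ (d.S : Subgroup G), c = y * s) := by
  classical
  haveI : Fact (Nat.Prime 2) := ⟨Nat.prime_two⟩
  obtain ⟨N, hNn, hNodd, k, hk⟩ := Cfsg.Agent.S0514.result d.S (2 ^ 2) (by norm_num) d.isDihedral
    d.z d.z_order
  haveI := hNn
  let C := centralizer ({d.z} : Set G)
  have hodd : ∀ c : C, Odd (orderOf c) ↔ c ∈ N := by
    intro c
    refine ⟨fun h => ?_, fun h => hNodd.of_dvd_nat (orderOf_dvd_natCard N h)⟩
    rw [← QuotientGroup.eq_one_iff, ← orderOf_eq_one_iff]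
    have h1 : orderOf (c : C ⧸ N) ∣ orderOf c := orderOf_map_dvd (QuotientGroup.mk' N) c
    have h2 : orderOf (c : C ⧸ N) ∣ 2 ^ k := hk ▸ orderOf_dvd_natCard _
    have h3 : Nat.Coprime (orderOf c) (2 ^ k) := (Nat.coprime_two_right.2 h).pow_right k
    exact Nat.dvd_one.1 (h3.gcd_eq_one ▸ Nat.dvd_gcd h1 h2)
  have hcore : d.core = N.map C.subtype := by
    refine le_antisymm ((closure_le _).2 ?_) ?_
    · rintro y ⟨hy, hyz⟩
      exact ⟨⟨y, mem_centralizer_singleton_iff.2 hyz.eq⟩, (hodd _).1 (by rwa [orderOf_mk]), rfl⟩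
    · rintro _ ⟨y, hy, rfl⟩
      exact subset_closure ⟨by rw [coe_subtype, orderOf_coe]; exact (hodd y).2 hy,
        mem_centralizer_singleton_iff.1 y.2⟩
  have hmem : ∀ y, y ∈ d.core ↔ Odd (orderOf y) ∧ Commute y d.z := by
    intro y
    refine ⟨fun h => ?_, fun h => subset_closure h⟩
    rw [hcore] at h
    obtain ⟨y, hy, rfl⟩ := h
    exact ⟨by rw [coe_subtype, orderOf_coe]; exact (hodd y).2 hy,
      mem_centralizer_singleton_iff.1 y.2⟩
  have hcard : Nat.card d.core = Nat.card N := by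
    rw [hcore, card_map_of_injective C.subtype_injective]
  have hSC : (d.S : Subgroup G) ≤ C := fun s hs => by
    refine mem_centralizer_singleton_iff.2 ?_
    have hzτ : Commute (d.z * d.τ) d.z := (Commute.refl d.z).mul_left d.τ_z
    have hwτ : Commute (d.w * d.τ) d.z := d.w_z.mul_left d.τ_z
    rcases d.mem_S_cases hs with (e | e | e | e) | e | e | e | e <;> rw [e]
    · exact (Commute.one_left d.z).eq
    · exact d.τ_z.eq
    · exact hzτ.eq
    · exact d.w_z.eq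
    · exact d.w_z.inv_left.eq
    · exact hwτ.eq
    · exact ((Commute.refl d.z).mul_left hwτ).eq
  let PS : Subgroup C := (d.S : Subgroup G).subgroupOf C
  have hPS : Nat.card PS = 8 := by
    rw [Nat.card_congr (subgroupOfEquivOfLe hSC).toEquiv, d.hS8]
  have h8i : N.index = 8 := by
    have h1 : 8 ∣ Nat.card C := hPS ▸ card_subgroup_dvd_card PS
    have h2 := N.card_mul_index
    have h3 : 8 ∣ N.index := by
      refine Nat.Coprime.dvd_of_dvd_mul_left ?_ (h2 ▸ h1)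
      exact (show 8 = 2 ^ 3 by norm_num) ▸ Nat.Coprime.pow_left 3 (Nat.coprime_two_left.2 hNodd)
    have h4 : N.index ∣ 8 := by
      have hd : N.index ∣ Nat.card G :=
        (index_dvd_card N).trans (card_subgroup_dvd_card C)
      rw [hk] at hd ⊢
      rw [← d.hS8]
      exact d.S.pow_dvd_card_of_pow_dvd_card hd
    exact Nat.dvd_antisymm h4 h3
  have hdec : ∀ c : C, ∃ y ∈ N, ∃ s ∈ PS, c = y * s := by
    have htop : N ⊔ PS = ⊤ := by
      refine (isComplement'_of_coprime ?_ ?_).sup_eq_top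
      · rw [hPS, ← h8i, N.card_mul_index]
      · rw [hPS]
        exact (show 8 = 2 ^ 3 by norm_num) ▸ Nat.Coprime.pow_right 3 (Nat.coprime_two_right.2 hNodd)
    intro c
    have hc : c ∈ ((N ⊔ PS : Subgroup C) : Set C) := htop ▸ mem_top c
    rw [normal_mul] at hc
    obtain ⟨y, hy, s, hs, rfl⟩ := hc
    exact ⟨y, hy, s, hs, rfl⟩
  refine ⟨hmem, hcard ▸ hNodd, fun c hc y hy => ?_, ?_, fun c hc => ?_⟩
  · rw [hmem] at hy ⊢
    refine ⟨by rw [Invol.orderOf_conj_eq]; exact hy.1, ?_⟩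
    exact (hc.mul_left hy.2).mul_left hc.inv_left
  · rw [hcard, ← h8i, mul_comm, N.card_mul_index]
  · obtain ⟨y, hy, s, hs, e⟩ := hdec ⟨c, mem_centralizer_singleton_iff.2 hc.eq⟩
    exact ⟨y, hcore ▸ mem_map_of_mem _ hy, s, hs, congrArg Subtype.val e⟩

omit hG [IsSimpleGroup G] in
theorem mem_core {y : G} : y ∈ d.core ↔ Odd (orderOf y) ∧ Commute y d.z := d.core_spec.1 y

omit hG [IsSimpleGroup G] in
theorem core_inverted {y : G} (hy : y ∈ d.core) : d.w * y * d.w⁻¹ = y⁻¹ := by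
  obtain ⟨hmem, hodd, hconj, -, -⟩ := d.core_spec
  have hinj : Function.Injective fun u : d.core =>
      (⟨(u : G)⁻¹ * (d.w * u * d.w⁻¹), mul_mem (inv_mem u.2) (hconj _ d.w_z _ u.2)⟩ : d.core) := by
    intro u v h
    have e : (u : G)⁻¹ * (d.w * u * d.w⁻¹) = (v : G)⁻¹ * (d.w * v * d.w⁻¹) := congrArg Subtype.val h
    set r := (v : G) * (u : G)⁻¹ with hr
    have hrw : r * d.w = d.w * r := by
      calc r * d.w = (v : G) * ((u : G)⁻¹ * (d.w * u * d.w⁻¹)) * (d.w * (u : G)⁻¹) := by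
            rw [hr]; group
        _ = d.w * r := by rw [e, hr]; group
    have hrc : r ∈ d.core := mul_mem v.2 (inv_mem u.2)
    have h4 : orderOf r ∣ 4 := d.hw ▸ Nat.card_zpowers d.w ▸ orderOf_dvd_natCard _ (d.mem_zpowers_w hrw)
    have h1 : orderOf r = 1 := Nat.dvd_one.1 (by
      have hco : Nat.Coprime (orderOf r) (2 ^ 2) := (Nat.coprime_two_right.2 ((hmem r).1 hrc).1).pow_right 2
      exact hco.gcd_eq_one ▸ Nat.dvd_gcd dvd_rfl (by norm_num; exact h4))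
    rw [orderOf_eq_one_iff, hr, mul_inv_eq_one] at h1
    exact Subtype.ext h1.symm
  obtain ⟨u, hu⟩ := (Finite.injective_iff_surjective.1 hinj) ⟨y, hy⟩
  have e : (u : G)⁻¹ * (d.w * u * d.w⁻¹) = y := congrArg Subtype.val hu
  have hz : d.z * (u : G) * d.z⁻¹ = u := by
    rw [((hmem _).1 u.2).2.symm.eq, mul_inv_cancel_right]
  rw [← e]
  calc d.w * ((u : G)⁻¹ * (d.w * u * d.w⁻¹)) * d.w⁻¹
      = (d.w * (u : G)⁻¹ * d.w⁻¹) * (d.z * u * d.z⁻¹) := by rw [z]; group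
    _ = _ := by rw [hz]; group

omit hG [IsSimpleGroup G] in
theorem core_comm {a b : G} (ha : a ∈ d.core) (hb : b ∈ d.core) : Commute a b := by
  have h := d.core_inverted (mul_mem ha hb)
  rw [← conj_mul, d.core_inverted ha, d.core_inverted hb, mul_inv_rev] at h
  have := congrArg (·⁻¹) h
  simp only [mul_inv_rev, inv_inv] at this
  exact this.symm

omit hG [IsSimpleGroup G] in
theorem mem_A {y : G} : y ∈ d.A ↔ y ∈ d.core ∧ Commute y d.τ := by
  rw [A, mem_inf, mem_centralizer_singleton_iff]; rfl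

omit hG [IsSimpleGroup G] in
/-- The second factor is inverted by `τ`. -/
theorem mem_swap_A {y : G} : y ∈ d.swap.A ↔ y ∈ d.core ∧ d.τ * y * d.τ⁻¹ = y⁻¹ := by
  rw [mem_A, swap_core]
  refine and_congr_right fun hy => ?_
  have h := d.core_inverted hy
  show y * (d.w * d.τ) = d.w * d.τ * y ↔ _
  rw [eq_comm, ← mul_inv_eq_iff_eq_mul,
    show d.w * d.τ * y * (d.w * d.τ)⁻¹ = d.w * (d.τ * y * d.τ⁻¹) * d.w⁻¹ by group]
  constructor
  · intro e
    have e1 : d.τ * y * d.τ⁻¹ = d.w⁻¹ * y * d.w := by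
      conv_rhs => rw [← e]
      group
    rw [e1]
    calc d.w⁻¹ * y * d.w = (d.w⁻¹ * (d.w * y * d.w⁻¹)⁻¹ * d.w) := by rw [h, inv_inv]
      _ = y⁻¹ := by group
  · intro e
    rw [e, ← conj_inv, h, inv_inv]

omit hG [IsSimpleGroup G] in
theorem decomposition {y : G} (hy : y ∈ d.core) :
    ∃ a ∈ d.A, ∃ b ∈ d.swap.A, y = a * b := by
  obtain ⟨hmem, hodd, hconj, -, -⟩ := d.core_spec
  obtain ⟨k, hk⟩ := ((hmem y).1 hy).1
  set u := y ^ (k + 1)
  have hu : u ∈ d.core := pow_mem hy _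
  set v := d.τ * u * d.τ⁻¹ with hv
  have hvc : v ∈ d.core := hconj _ d.τ_z _ hu
  have hvv : d.τ * v * d.τ⁻¹ = u := by
    rw [hv, d.τ_inv, ← mul_assoc, ← mul_assoc, d.τ_sq, one_mul, mul_assoc, d.τ_sq, mul_one]
  have hcm := d.core_comm hu hvc
  refine ⟨u * v, d.mem_A.2 ⟨mul_mem hu hvc, ?_⟩, u * v⁻¹, d.mem_swap_A.2 ⟨mul_mem hu (inv_mem hvc), ?_⟩, ?_⟩
  · refine (mul_inv_eq_iff_eq_mul.1 ?_).symm
    rw [← conj_mul, hvv, ← hv, hcm.eq]
  · rw [← conj_mul, ← conj_inv, hvv, ← hv, mul_inv_rev, inv_inv]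
  · rw [show u * v * (u * v⁻¹) = u * (v * u) * v⁻¹ by group, ← hcm.eq, ← mul_assoc,
      mul_inv_cancel_right, ← pow_add, show k + 1 + (k + 1) = 2 * k + 1 + 1 by omega, ← hk, pow_succ,
      pow_orderOf_eq_one, one_mul]

omit hG [IsSimpleGroup G] in
theorem eq_one_of_mem {y : G} (h₁ : y ∈ d.A) (h₂ : y ∈ d.swap.A) : y = 1 := by
  have e := (d.mem_swap_A.1 h₂).2
  rw [(d.mem_A.1 h₁).2.symm.eq, mul_inv_cancel_right] at e
  have h2 : y ^ 2 = 1 := by rw [pow_two]; exact mul_eq_one_iff_eq_inv.2 e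
  obtain ⟨k, hk⟩ := (d.mem_core.1 (d.mem_A.1 h₁).1).1
  have h3 := pow_orderOf_eq_one y
  rwa [hk, pow_succ, pow_mul, h2, one_pow, one_mul] at h3

omit hG [IsSimpleGroup G] in
theorem card_core : Nat.card d.core = Nat.card d.A * Nat.card d.swap.A := by
  rw [← Nat.card_prod]
  symm
  refine Nat.card_congr (Equiv.ofBijective
    (fun p => (⟨(p.1 : G) * p.2, mul_mem (d.mem_A.1 p.1.2).1 (d.mem_swap_A.1 p.2.2).1⟩ : d.core))
    ⟨?_, ?_⟩)
  · rintro ⟨a, b⟩ ⟨a', b'⟩ h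
    have e : (a : G) * b = a' * b' := congrArg Subtype.val h
    have e1 : (a' : G)⁻¹ * a = b' * (b : G)⁻¹ := by
      rw [eq_mul_inv_iff_mul_eq, mul_assoc, e, inv_mul_cancel_left]
    have h1 := d.eq_one_of_mem (mul_mem (inv_mem a'.2) a.2)
      (e1 ▸ mul_mem b'.2 (inv_mem b.2))
    have ha : (a' : G) = a := inv_mul_eq_one.1 h1
    rw [h1] at e1
    exact Prod.ext (Subtype.ext ha.symm) (Subtype.ext (mul_inv_eq_one.1 e1.symm).symm)
  · rintro ⟨y, hy⟩
    obtain ⟨a, ha, b, hb, rfl⟩ := d.decomposition hy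
    exact ⟨(⟨a, ha⟩, ⟨b, hb⟩), rfl⟩

omit hG [IsSimpleGroup G] in
theorem A_odd : Odd (Nat.card d.A) :=
  (Nat.odd_mul.1 (d.card_core ▸ d.core_spec.2.1)).1

omit hG [IsSimpleGroup G] in
theorem core_S {s y : G} (hs : s ∈ (d.S : Subgroup G)) (hy : y ∈ d.core) (h : s = y) : y = 1 := by
  have h1 : orderOf y ∣ 2 ^ 3 := by
    rw [show 2 ^ 3 = Nat.card (d.S : Subgroup G) by rw [d.hS8]; norm_num, ← h]
    exact orderOf_dvd_natCard _ hs
  have h2 : Nat.Coprime (orderOf y) (2 ^ 3) := (Nat.coprime_two_right.2 (d.mem_core.1 hy).1).pow_right 3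
  exact orderOf_eq_one_iff.1 (Nat.dvd_one.1 (h2.gcd_eq_one ▸ Nat.dvd_gcd dvd_rfl h1))

omit hG [IsSimpleGroup G] in
theorem core_mul_S {y y' s s' : G} (hy : y ∈ d.core) (hy' : y' ∈ d.core)
    (hs : s ∈ (d.S : Subgroup G)) (hs' : s' ∈ (d.S : Subgroup G)) (h : y * s = y' * s') :
    y = y' ∧ s = s' := by
  have e : y'⁻¹ * y = s' * s⁻¹ := by
    rw [eq_mul_inv_iff_mul_eq, mul_assoc, h, inv_mul_cancel_left]
  have h1 := d.core_S (mul_mem hs' (inv_mem hs)) (mul_mem (inv_mem hy') hy) e.symm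
  have h2 : y' = y := inv_mul_eq_one.1 h1
  exact ⟨h2.symm, mul_left_cancel (h2 ▸ h)⟩

omit hG [IsSimpleGroup G] in
theorem card_centralizer_pair :
    Nat.card (centralizer ({d.z, d.τ} : Set G)) = 4 * Nat.card d.A := by
  classical
  have hFour : ∀ s ∈ ({1, d.z, d.τ, d.z * d.τ} : Finset G),
      s ∈ (d.S : Subgroup G) ∧ Commute s d.z ∧ Commute s d.τ := by
    intro s hs
    simp only [Finset.mem_insert, Finset.mem_singleton] at hs
    rcases hs with rfl | rfl | rfl | rfl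
    · exact ⟨one_mem _, Commute.one_left _, Commute.one_left _⟩
    · exact ⟨d.zS, Commute.refl _, d.τ_z.symm⟩
    · exact ⟨d.hτS, d.τ_z, Commute.refl _⟩
    · exact ⟨mul_mem d.zS d.hτS, (Commute.refl d.z).mul_left d.τ_z,
        d.τ_z.symm.mul_left (Commute.refl _)⟩
  have hcard : ({1, d.z, d.τ, d.z * d.τ} : Finset G).card = 4 := by
    have hzτ : d.z ≠ d.τ := fun h => d.τ_notMem (h ▸ pow_mem (mem_zpowers d.w) 2)
    have h1 : d.z ≠ 1 := Invol.ne_one d.z_order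
    have h2 : d.τ ≠ 1 := Invol.ne_one d.hτ
    have h3 : d.z * d.τ ≠ 1 := fun h => hzτ (by
      rw [← d.τ_inv]; exact mul_eq_one_iff_eq_inv.1 h)
    rw [Finset.card_insert_of_notMem (by simp [h1.symm, h2.symm, h3.symm]),
      Finset.card_insert_of_notMem (by simp [hzτ, h2]),
      Finset.card_insert_of_notMem (by simp [h1]), Finset.card_singleton]
  rw [← hcard, ← Nat.card_eq_finsetCard, ← Nat.card_prod]
  symm
  refine Nat.card_congr (Equiv.ofBijective (fun p => (⟨(p.2 : G) * (p.1 : G), mem_centralizer_iff.2 ?_⟩ :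
    centralizer ({d.z, d.τ} : Set G))) ⟨?_, ?_⟩)
  · obtain ⟨-, h1, h2⟩ := hFour p.1 p.1.2
    rintro g (rfl | rfl)
    · exact ((d.mem_core.1 (d.mem_A.1 p.2.2).1).2.mul_left h1).symm.eq
    · exact ((d.mem_A.1 p.2.2).2.mul_left h2).symm.eq
  · rintro ⟨s, a⟩ ⟨s', a'⟩ h
    obtain ⟨ha, hs⟩ := d.core_mul_S (d.mem_A.1 a.2).1 (d.mem_A.1 a'.2).1 (hFour s s.2).1
      (hFour s' s'.2).1 (congrArg Subtype.val h)
    exact Prod.ext (Subtype.ext hs) (Subtype.ext ha)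
  · rintro ⟨c, hc⟩
    rw [mem_centralizer_iff] at hc
    have hcz : Commute c d.z := (hc d.z (by simp)).symm
    have hcτ : Commute c d.τ := (hc d.τ (by simp)).symm
    obtain ⟨hmem, -, hconj, -, hdec⟩ := d.core_spec
    obtain ⟨y, hy, s, hs, rfl⟩ := hdec c hcz
    have e : y * s = (d.τ * y * d.τ⁻¹) * (d.τ * s * d.τ⁻¹) := by
      rw [conj_mul, hcτ.symm.eq, mul_inv_cancel_right]
    obtain ⟨h1, h2⟩ := d.core_mul_S hy (hconj _ d.τ_z _ hy) hs
      (mul_mem (mul_mem d.hτS hs) (inv_mem d.hτS)) e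
    have hsτ : Commute d.τ s := mul_inv_eq_iff_eq_mul.1 h2.symm
    refine ⟨(⟨s, ?_⟩, ⟨y, d.mem_A.2 ⟨hy, (mul_inv_eq_iff_eq_mul.1 h1.symm).symm⟩⟩), rfl⟩
    simp only [Finset.mem_insert, Finset.mem_singleton]
    have hbad : ∀ r : G, Commute d.τ (d.w * r) → Commute d.τ r → False := by
      intro r h h'
      have hc : Commute d.τ d.w := by
        have := h.mul_right h'.inv_right
        rwa [mul_inv_cancel_right] at this
      have hh := d.hrel
      rw [hc.eq, mul_inv_cancel_right] at hh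
      have h4 := orderOf_dvd_of_pow_eq_one (show d.w ^ 2 = 1 by
        rw [pow_two]; exact mul_eq_one_iff_eq_inv.2 hh)
      rw [d.hw] at h4
      omega
    rcases d.mem_S_cases hs with (e' | e' | e' | e') | e' | e' | e' | e'
    · exact Or.inl e'
    · exact Or.inr (Or.inl e')
    · exact Or.inr (Or.inr (Or.inl e'))
    · exact Or.inr (Or.inr (Or.inr e'))
    · exact (hbad 1 (by rw [mul_one, ← e']; exact hsτ) (Commute.one_right _)).elim
    · exact (hbad 1 (by rw [mul_one]; exact (e' ▸ hsτ).inv_right |> fun h => by rwa [inv_inv] at h)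
        (Commute.one_right _)).elim
    · exact (hbad d.τ (e' ▸ hsτ) (Commute.refl _)).elim
    · exact (hbad d.τ (by
        have := d.τ_z.mul_right (e' ▸ hsτ)
        rwa [← mul_assoc, d.z_sq, one_mul] at this) (Commute.refl _)).elim

omit hG [IsSimpleGroup G] in
/-- An involution commuting with `z`, up to conjugation in the centralizer of `z`. -/
theorem invol_conj {u : G} (hu : orderOf u = 2) (hcu : Commute u d.z) :
    u = d.z ∨ ∃ c, Commute c d.z ∧ (c * u * c⁻¹ = d.τ ∨ c * u * c⁻¹ = d.w * d.τ) := by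
  obtain ⟨hmem, -, hconj, -, hdec⟩ := d.core_spec
  obtain ⟨y, hy, s, hs, rfl⟩ := hdec u hcu
  have hsz : Commute s d.z := by
    have := ((hmem y).1 hy).2.inv_left.mul_left hcu
    rwa [inv_mul_cancel_left] at this
  have h1 : y * (s * y * s⁻¹) * (s * s) = 1 * 1 := by
    rw [one_mul, ← Invol.inv_mul_self hu]; group
  obtain ⟨e1, e2⟩ := d.core_mul_S (mul_mem hy (hconj s hsz y hy)) (one_mem _) (mul_mem hs hs)
    (one_mem _) h1
  have hinv : s * y * s⁻¹ = y⁻¹ := eq_inv_of_mul_eq_one_right e1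
  by_cases hs1 : s = 1
  · exfalso
    obtain ⟨k, hk⟩ := ((hmem y).1 hy).1
    rw [hs1, mul_one, hk] at hu
    omega
  have hs2 : orderOf s = 2 := Invol.orderOf_eq_two_of hs1 e2
  obtain ⟨k, hk⟩ := ((hmem y).1 hy).1
  set r := y ^ (k + 1) with hr
  have hrr : r * r = y := by
    rw [hr, ← pow_add, show k + 1 + (k + 1) = 2 * k + 1 + 1 by omega, ← hk, pow_succ,
      pow_orderOf_eq_one, one_mul]
  have hrs : s * r * s⁻¹ = r⁻¹ := by rw [hr, ← conj_pow, hinv, inv_pow]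
  have hrc : Commute r⁻¹ d.z := (((hmem y).1 hy).2.pow_left _).inv_left
  have hmove : r⁻¹ * (y * s) * r⁻¹⁻¹ = s := by
    calc r⁻¹ * (y * s) * r⁻¹⁻¹ = r⁻¹ * (r * r) * (s * r * s⁻¹) * s := by rw [hrr]; group
      _ = s := by rw [hrs]; group
  have hwz : d.w * (d.z * d.τ) * d.w⁻¹ = d.τ := by
    rw [d.w_inv]
    calc d.w * (d.z * d.τ) * (d.z * d.w) = (d.w * d.z) * (d.τ * d.z) * d.w := by group
      _ = d.w * (d.z * d.z) * (d.τ * d.w) := by rw [d.τ_z.eq]; group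
      _ = d.w * (d.z * d.w * d.τ) := by rw [d.z_sq, mul_one, d.τ_w]
      _ = d.w ^ 4 * d.τ := by rw [z]; group
      _ = d.τ := by rw [d.w_pow_four, one_mul]
  rcases d.involution_S hs hs2 with rfl | rfl | rfl | rfl | rfl
  · left
    have h : y * y = 1 := by
      rw [((hmem y).1 hy).2.symm.eq, mul_inv_cancel_right] at hinv
      exact mul_eq_one_iff_eq_inv.2 hinv
    have h2 := pow_orderOf_eq_one y
    rw [hk, pow_succ, pow_mul, pow_two, h, one_pow, one_mul] at h2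
    rw [h2, one_mul]
  · exact Or.inr ⟨r⁻¹, hrc, Or.inl hmove⟩
  · refine Or.inr ⟨d.w * r⁻¹, d.w_z.mul_left hrc, Or.inl ?_⟩
    calc d.w * r⁻¹ * (y * (d.z * d.τ)) * (d.w * r⁻¹)⁻¹
        = d.w * (r⁻¹ * (y * (d.z * d.τ)) * r⁻¹⁻¹) * d.w⁻¹ := by group
      _ = _ := by rw [hmove, hwz]
  · exact Or.inr ⟨r⁻¹, hrc, Or.inr hmove⟩
  · refine Or.inr ⟨d.w * r⁻¹, d.w_z.mul_left hrc, Or.inr ?_⟩
    calc d.w * r⁻¹ * (y * (d.z * (d.w * d.τ))) * (d.w * r⁻¹)⁻¹
        = d.w * (r⁻¹ * (y * (d.z * (d.w * d.τ))) * r⁻¹⁻¹) * d.w⁻¹ := by group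
      _ = d.w * (d.w * (d.z * d.τ) * d.w⁻¹) := by
        rw [hmove, show d.z * (d.w * d.τ) = d.w * (d.z * d.τ) by
          rw [← mul_assoc, ← mul_assoc, d.w_z.eq]]
        group
      _ = _ := by rw [hwz]

omit hG [IsSimpleGroup G] in
theorem z_ne_τ : d.z ≠ d.τ := fun h => d.τ_notMem (h ▸ pow_mem (mem_zpowers d.w) 2)

omit hG [IsSimpleGroup G] in
theorem conj_w_τ : d.w * d.τ * d.w⁻¹ = d.z * d.τ := by
  calc d.w * d.τ * d.w⁻¹ = d.w * (d.τ * d.w⁻¹ * d.τ⁻¹) * d.τ := by group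
    _ = d.w * (d.τ * d.w * d.τ⁻¹)⁻¹ * d.τ := by group
    _ = d.z * d.τ := by rw [d.hrel, inv_inv, z, pow_two]

theorem exists_swapper : ∃ h : G, h * d.τ * h⁻¹ = d.z ∧
    (h * d.z * h⁻¹ = d.τ ∨ h * d.z * h⁻¹ = d.w * d.τ) := by
  obtain ⟨h, hh⟩ := d.oneClass hG d.hτ d.z_order
  have hc : Commute (h * d.z * h⁻¹) d.z := by
    have h1 := d.τ_z.symm.map (MulAut.conj h).toMonoidHom
    change Commute (h * d.z * h⁻¹) (h * d.τ * h⁻¹) at h1
    rwa [hh] at h1
  rcases d.invol_conj (by rw [Invol.orderOf_conj_eq, d.z_order]) hc with e | ⟨c, hcz, e⟩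
  · exact absurd (mul_left_cancel (mul_right_cancel (e.trans hh.symm))) d.z_ne_τ
  · refine ⟨c * h, ?_, ?_⟩
    · rw [show c * h * d.τ * (c * h)⁻¹ = c * (h * d.τ * h⁻¹) * c⁻¹ by group, hh, hcz.eq,
        mul_inv_cancel_right]
    · rw [show c * h * d.z * (c * h)⁻¹ = c * (h * d.z * h⁻¹) * c⁻¹ by group]
      exact e

theorem exists_fours : ∃ g : G, g * d.z * g⁻¹ = d.τ ∧
    (g * d.τ * g⁻¹ = d.z ∨ g * d.τ * g⁻¹ = d.z * d.τ) := by
  obtain ⟨h, hτ', hz | hz⟩ := d.exists_swapper hG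
  · exact ⟨h, hz, Or.inl hτ'⟩
  obtain ⟨k, hk', hk⟩ := d.swap.exists_swapper hG
  change k * (d.w * d.τ) * k⁻¹ = d.z at hk'
  change k * d.z * k⁻¹ = d.w * d.τ ∨ k * d.z * k⁻¹ = d.w * (d.w * d.τ) at hk
  rcases hk with hk | hk
  · refine ⟨h⁻¹ * k * h, ?_, Or.inl ?_⟩
    · calc h⁻¹ * k * h * d.z * (h⁻¹ * k * h)⁻¹ = h⁻¹ * (k * (h * d.z * h⁻¹) * k⁻¹) * h := by group
        _ = h⁻¹ * (h * d.τ * h⁻¹) * h := by rw [hz, hk', hτ']
        _ = _ := by group
    · calc h⁻¹ * k * h * d.τ * (h⁻¹ * k * h)⁻¹ = h⁻¹ * (k * (h * d.τ * h⁻¹) * k⁻¹) * h := by group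
        _ = h⁻¹ * (h * d.z * h⁻¹) * h := by rw [hτ', hk, hz]
        _ = _ := by group
  · rw [← mul_assoc, ← pow_two, ← z] at hk
    refine ⟨k * d.w * h, ?_, Or.inr ?_⟩
    · calc k * d.w * h * d.z * (k * d.w * h)⁻¹
          = k * (d.w * (h * d.z * h⁻¹) * d.w⁻¹) * k⁻¹ := by group
        _ = k * (d.w * (d.w * d.τ * d.w⁻¹)) * k⁻¹ := by rw [hz]; group
        _ = (k * d.z * k⁻¹) * (k * (d.w * d.τ) * k⁻¹) := by
          rw [d.conj_w_τ, ← mul_assoc d.w, d.w_z.eq]; group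
        _ = d.τ := by rw [hk, hk', mul_assoc, d.τ_z.eq, ← mul_assoc, d.z_sq, one_mul]
    · calc k * d.w * h * d.τ * (k * d.w * h)⁻¹
          = k * (d.w * (h * d.τ * h⁻¹) * d.w⁻¹) * k⁻¹ := by group
        _ = k * d.z * k⁻¹ := by rw [hτ', d.w_z.eq, mul_inv_cancel_right]
        _ = _ := hk

/-- An element fusing the three involutions of the four-group and centralizing `A`. -/
theorem exists_triality : ∃ v : G, v * d.z * v⁻¹ = d.τ ∧ v * d.τ * v⁻¹ = d.z * d.τ ∧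
    v * (d.z * d.τ) * v⁻¹ = d.z ∧ ∀ a ∈ d.A, v * a * v⁻¹ = a := by
  obtain ⟨g, hgz, hgτ⟩ := d.exists_fours hG
  have hA : ∀ a ∈ d.A, g⁻¹ * a * g ∈ d.A := by
    intro a ha
    obtain ⟨hac, haτ⟩ := d.mem_A.1 ha
    obtain ⟨hodd, haz⟩ := d.mem_core.1 hac
    have e : ∀ t, Commute a t → Commute (g⁻¹ * a * g) (g⁻¹ * t * g) := fun t ht => by
      have := ht.map (MulAut.conj g⁻¹).toMonoidHom
      simpa using this
    have hz1 : g⁻¹ * d.τ * g = d.z := by rw [← hgz]; group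
    have hz' : Commute (g⁻¹ * a * g) d.z := hz1 ▸ e _ haτ
    refine d.mem_A.2 ⟨d.mem_core.2 ⟨?_, hz'⟩, ?_⟩
    · have := Invol.orderOf_conj_eq g⁻¹ a
      rw [inv_inv] at this
      rwa [this]
    · rcases hgτ with h | h
      · have : g⁻¹ * d.z * g = d.τ := by rw [← h]; group
        exact this ▸ e _ haz
      · have : g⁻¹ * (d.z * d.τ) * g = d.τ := by rw [← h]; group
        exact this ▸ e _ (haz.mul_right haτ)
  have hwA : ∀ a ∈ d.A, d.w * a * d.w⁻¹ = a⁻¹ := fun a ha => d.core_inverted (d.mem_A.1 ha).1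
  refine ⟨d.w * (g * d.w * g⁻¹), ?hz, ?hτ, ?hzτ, fun a ha => ?_⟩
  case hz =>
    have h1 : g * d.w * g⁻¹ * d.z * (g * d.w * g⁻¹)⁻¹ = d.z * d.τ := by
      rcases hgτ with h | h
      · calc g * d.w * g⁻¹ * d.z * (g * d.w * g⁻¹)⁻¹
            = g * (d.w * d.τ * d.w⁻¹) * g⁻¹ := by rw [← h]; group
          _ = (g * d.z * g⁻¹) * (g * d.τ * g⁻¹) := by rw [d.conj_w_τ]; group
          _ = _ := by rw [hgz, h, d.τ_z.eq]
      · have h' : g * (d.z * d.τ) * g⁻¹ = d.z := by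
          rw [← conj_mul, hgz, h, d.τ_z.symm.eq, ← mul_assoc, d.τ_sq, one_mul]
        calc g * d.w * g⁻¹ * d.z * (g * d.w * g⁻¹)⁻¹
            = g * (d.w * d.z * d.w⁻¹ * (d.w * d.τ * d.w⁻¹)) * g⁻¹ := by
              nth_rw 1 [← h']; group
          _ = _ := by rw [d.w_z.eq, mul_inv_cancel_right, d.conj_w_τ, ← mul_assoc d.z, d.z_sq,
                one_mul, h]
    calc d.w * (g * d.w * g⁻¹) * d.z * (d.w * (g * d.w * g⁻¹))⁻¹
        = d.w * (g * d.w * g⁻¹ * d.z * (g * d.w * g⁻¹)⁻¹) * d.w⁻¹ := by group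
      _ = (d.w * d.z * d.w⁻¹) * (d.w * d.τ * d.w⁻¹) := by rw [h1]; group
      _ = _ := by rw [d.w_z.eq, mul_inv_cancel_right, d.conj_w_τ, ← mul_assoc, d.z_sq, one_mul]
  case hτ =>
    calc d.w * (g * d.w * g⁻¹) * d.τ * (d.w * (g * d.w * g⁻¹))⁻¹
        = d.w * (g * (d.w * d.z * d.w⁻¹) * g⁻¹) * d.w⁻¹ := by rw [← hgz]; group
      _ = _ := by rw [d.w_z.eq, mul_inv_cancel_right, hgz, d.conj_w_τ]
  case hzτ =>
    have h1 : d.w * (g * d.w * g⁻¹) * d.z * (d.w * (g * d.w * g⁻¹))⁻¹ = d.τ := by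
      have hA' : g * d.w * g⁻¹ * d.z * (g * d.w * g⁻¹)⁻¹ = d.z * d.τ := by
        rcases hgτ with h | h
        · calc g * d.w * g⁻¹ * d.z * (g * d.w * g⁻¹)⁻¹
              = g * (d.w * d.τ * d.w⁻¹) * g⁻¹ := by rw [← h]; group
            _ = (g * d.z * g⁻¹) * (g * d.τ * g⁻¹) := by rw [d.conj_w_τ]; group
            _ = _ := by rw [hgz, h, d.τ_z.eq]
        · have h' : g * (d.z * d.τ) * g⁻¹ = d.z := by
            rw [← conj_mul, hgz, h, d.τ_z.symm.eq, ← mul_assoc, d.τ_sq, one_mul]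
          calc g * d.w * g⁻¹ * d.z * (g * d.w * g⁻¹)⁻¹
              = g * (d.w * d.z * d.w⁻¹ * (d.w * d.τ * d.w⁻¹)) * g⁻¹ := by
                nth_rw 1 [← h']; group
            _ = _ := by rw [d.w_z.eq, mul_inv_cancel_right, d.conj_w_τ, ← mul_assoc d.z, d.z_sq,
                  one_mul, h]
      calc d.w * (g * d.w * g⁻¹) * d.z * (d.w * (g * d.w * g⁻¹))⁻¹
          = d.w * (g * d.w * g⁻¹ * d.z * (g * d.w * g⁻¹)⁻¹) * d.w⁻¹ := by group
        _ = (d.w * d.z * d.w⁻¹) * (d.w * d.τ * d.w⁻¹) := by rw [hA']; group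
        _ = _ := by rw [d.w_z.eq, mul_inv_cancel_right, d.conj_w_τ, ← mul_assoc, d.z_sq, one_mul]
    have h2 : d.w * (g * d.w * g⁻¹) * d.τ * (d.w * (g * d.w * g⁻¹))⁻¹ = d.z * d.τ := by
      calc d.w * (g * d.w * g⁻¹) * d.τ * (d.w * (g * d.w * g⁻¹))⁻¹
          = d.w * (g * (d.w * d.z * d.w⁻¹) * g⁻¹) * d.w⁻¹ := by rw [← hgz]; group
        _ = _ := by rw [d.w_z.eq, mul_inv_cancel_right, hgz, d.conj_w_τ]
    rw [← conj_mul, h1, h2, ← mul_assoc, d.τ_z.eq, mul_assoc, d.τ_sq, mul_one]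
  calc d.w * (g * d.w * g⁻¹) * a * (d.w * (g * d.w * g⁻¹))⁻¹
      = d.w * (g * (d.w * (g⁻¹ * a * g) * d.w⁻¹) * g⁻¹) * d.w⁻¹ := by group
    _ = (d.w * a * d.w⁻¹)⁻¹ := by rw [hwA _ (hA a ha)]; group
    _ = a := by rw [hwA a ha, inv_inv]

/-- The centralizer of `A`. -/
def X : Subgroup G := centralizer (d.A : Set G)

omit hG [IsSimpleGroup G] in
theorem mem_X {x : G} : x ∈ d.X ↔ ∀ a ∈ d.A, Commute a x :=
  mem_centralizer_iff

omit hG [IsSimpleGroup G] in
theorem X_basic (hA : d.A ≠ ⊥) : d.z ∈ d.X ∧ d.τ ∈ d.X ∧ d.w ∉ d.X ∧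
    (∀ y ∈ d.core, y ∈ d.X) ∧ ∀ x ∈ d.X, Commute x d.z →
      ∃ y ∈ d.core, ∃ s, (s = 1 ∨ s = d.z ∨ s = d.τ ∨ s = d.z * d.τ) ∧ x = y * s := by
  have hz : d.z ∈ d.X := d.mem_X.2 fun a ha => (d.mem_core.1 (d.mem_A.1 ha).1).2
  have hτ' : d.τ ∈ d.X := d.mem_X.2 fun a ha => (d.mem_A.1 ha).2
  have hw' : d.w ∉ d.X := fun h => hA ((eq_bot_iff_forall _).2 fun a ha => by
    have h1 := d.core_inverted (d.mem_A.1 ha).1
    rw [(d.mem_X.1 h a ha).symm.eq, mul_inv_cancel_right] at h1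
    obtain ⟨k, hk⟩ := (d.mem_core.1 (d.mem_A.1 ha).1).1
    have h2 := pow_orderOf_eq_one a
    rwa [hk, pow_succ, pow_mul, pow_two, mul_eq_one_iff_eq_inv.2 h1, one_pow, one_mul] at h2)
  have hcore : ∀ y ∈ d.core, y ∈ d.X := fun y hy =>
    d.mem_X.2 fun a ha => d.core_comm (d.mem_A.1 ha).1 hy
  refine ⟨hz, hτ', hw', hcore, fun x hx hxz => ?_⟩
  obtain ⟨y, hy, s, hs, rfl⟩ := d.core_spec.2.2.2.2 x hxz
  refine ⟨y, hy, s, ?_, rfl⟩
  have hsX : s ∈ d.X := by simpa using mul_mem (inv_mem (hcore y hy)) hx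
  rcases d.mem_S_cases hs with h | e | e | e | e
  · exact h
  · exact absurd (e ▸ hsX) hw'
  · exact absurd (inv_mem_iff.1 (e ▸ hsX)) hw'
  · exact absurd (by
      have h1 := mul_mem (e ▸ hsX) hτ'
      rwa [mul_assoc, d.τ_sq, mul_one] at h1) hw'
  · exact absurd (by
      have h1 := mul_mem hz (e ▸ hsX)
      rw [← mul_assoc, d.z_sq, one_mul] at h1
      have h2 := mul_mem h1 hτ'
      rwa [mul_assoc, d.τ_sq, mul_one] at h2) hw'

omit hG [IsSimpleGroup G] in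
/-- An involution of `X` commuting with `z`. -/
theorem X_invol (hA : d.A ≠ ⊥) {u : G} (huX : u ∈ d.X) (hu : orderOf u = 2) (hcu : Commute u d.z)
    (huz : u ≠ d.z) : ∃ b ∈ d.swap.A, u = b * d.τ ∨ u = b * (d.z * d.τ) := by
  obtain ⟨hz, hτ', -, hcore, hdec⟩ := d.X_basic hA
  obtain ⟨y, hy, s, hs, rfl⟩ := hdec u huX hcu
  have hinv : s = d.τ ∨ s = d.z * d.τ := by
    rcases hs with rfl | rfl | h | h
    · exfalso
      obtain ⟨k, hk⟩ := (d.mem_core.1 hy).1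
      rw [mul_one, hk] at hu
      omega
    · exfalso
      have h1 : y * y = 1 := by
        have := Invol.inv_mul_self hu
        rwa [(d.mem_core.1 hy).2.symm.mul_mul_mul_comm, d.z_sq, mul_one] at this
      obtain ⟨k, hk⟩ := (d.mem_core.1 hy).1
      have h2 := pow_orderOf_eq_one y
      rw [hk, pow_succ, pow_mul, pow_two, h1, one_pow, one_mul] at h2
      exact huz (by rw [h2, one_mul])
    · exact Or.inl h
    · exact Or.inr h
  refine ⟨y, d.mem_swap_A.2 ⟨hy, ?_⟩, ?_⟩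
  · have h1 := Invol.inv_mul_self hu
    rcases hinv with rfl | rfl
    · refine eq_inv_of_mul_eq_one_right ?_
      rw [d.τ_inv, ← h1]; group
    · refine eq_inv_of_mul_eq_one_right ?_
      rw [d.τ_inv, ← h1]
      calc y * (d.τ * y * d.τ) = y * (d.z * d.z) * (d.τ * y * d.τ) := by rw [d.z_sq, mul_one]
        _ = y * d.z * d.τ * (d.z * y) * d.τ := by
          rw [show y * (d.z * d.z) * (d.τ * y * d.τ) = y * d.z * (d.z * d.τ) * y * d.τ by group,
            ← d.τ_z.eq]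
          group
        _ = _ := by rw [(d.mem_core.1 hy).2.symm.eq]; group
  · rcases hinv with rfl | rfl <;> simp

/-- All involutions of `X` are conjugate in `X`. -/
theorem X_oneClass (hA : d.A ≠ ⊥) {j : G} (hjX : j ∈ d.X) (hj : orderOf j = 2) :
    ∃ x ∈ d.X, x * d.z * x⁻¹ = j := by
  obtain ⟨hz, hτ', -, hcore, -⟩ := d.X_basic hA
  obtain ⟨v, hvz, hvτ, hvzτ, hva⟩ := d.exists_triality hG
  have hvX : v ∈ d.X := d.mem_X.2 fun a ha => (mul_inv_eq_iff_eq_mul.1 (hva a ha)).symm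
  have hcomm : ∀ u ∈ d.X, orderOf u = 2 → Commute u d.z → ∃ x ∈ d.X, x * d.z * x⁻¹ = u := by
    intro u huX hu hcu
    by_cases huz : u = d.z
    · exact ⟨1, one_mem _, by rw [huz]; group⟩
    obtain ⟨b, hb, hub⟩ := d.X_invol hA huX hu hcu huz
    obtain ⟨hbc, hbτ⟩ := d.mem_swap_A.1 hb
    obtain ⟨k, hk⟩ := (d.mem_core.1 hbc).1
    set r := b ^ (k + 1) with hr
    have hrr : r * r = b := by
      rw [hr, ← pow_add, show k + 1 + (k + 1) = 2 * k + 1 + 1 by omega, ← hk, pow_succ,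
        pow_orderOf_eq_one, one_mul]
    have hrX : r ∈ d.X := hcore _ (pow_mem hbc _)
    have hrτ : d.τ * r⁻¹ = r * d.τ := by
      refine mul_inv_eq_iff_eq_mul.1 ?_
      rw [hr, ← inv_pow, ← conj_pow, ← conj_inv, hbτ, inv_inv]
    have hrz : Commute r d.z := (d.mem_core.1 hbc).2.pow_left _
    rcases hub with rfl | rfl
    · refine ⟨r * v, mul_mem hrX hvX, ?_⟩
      rw [show r * v * d.z * (r * v)⁻¹ = r * (v * d.z * v⁻¹) * r⁻¹ by group, hvz, mul_assoc, hrτ,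
        ← mul_assoc, hrr]
    · refine ⟨r * (v * v), mul_mem hrX (mul_mem hvX hvX), ?_⟩
      rw [show r * (v * v) * d.z * (r * (v * v))⁻¹ = r * (v * (v * d.z * v⁻¹) * v⁻¹) * r⁻¹ by group,
        hvz, hvτ, mul_assoc, mul_assoc, hrτ, ← mul_assoc d.z, ← hrz.eq, mul_assoc r d.z d.τ,
        ← mul_assoc r r, hrr]
  -- reduce to involutions commuting with `z`
  set r := d.z * j with hr
  have hrX : r ∈ d.X := mul_mem hz hjX
  have hflip : ∀ i : ℕ, d.z * r ^ i * d.z⁻¹ = (r ^ i)⁻¹ := fun i => by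
    rw [← conj_pow, hr, Invol.conj_mul_left d.z_order hj, inv_pow]
  rcases Nat.even_or_odd' (orderOf r) with ⟨k, hk | hk⟩
  · have hkpos : 0 < k := by have := orderOf_pos r; omega
    set u := r ^ k
    have hu : orderOf u = 2 := by
      rw [orderOf_pow_of_dvd hkpos.ne' (hk ▸ dvd_mul_left k 2), hk, Nat.mul_div_cancel _ hkpos]
    have huz : Commute u d.z := by
      have h1 := hflip k
      rw [Invol.inv_eq_self hu] at h1
      exact (mul_inv_eq_iff_eq_mul.1 h1).symm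
    have huj : Commute u j := by
      have h1 := huz.mul_right (Commute.pow_self r k)
      rwa [hr, ← mul_assoc, d.z_sq, one_mul] at h1
    obtain ⟨x, hx, hxu⟩ := hcomm u (pow_mem hrX k) hu huz
    have hc : Commute (x⁻¹ * j * x) d.z := by
      have h1 := huj.symm.map (MulAut.conj x⁻¹).toMonoidHom
      rw [← hxu] at h1
      simpa [mul_assoc] using h1
    obtain ⟨y, hy, hye⟩ := hcomm _ (mul_mem (mul_mem (inv_mem hx) hjX) hx) (by
      have := Invol.orderOf_conj_eq x⁻¹ j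
      rw [inv_inv] at this
      rw [this, hj]) hc
    exact ⟨x * y, mul_mem hx hy, by
      rw [show x * y * d.z * (x * y)⁻¹ = x * (y * d.z * y⁻¹) * x⁻¹ by group, hye]; group⟩
  · refine ⟨r ^ k, pow_mem hrX k, ?_⟩
    have h1 : r ^ k * d.z = d.z * (r ^ k)⁻¹ := by
      have h := hflip k
      rw [← h]
      calc r ^ k * d.z = (d.z * d.z) * r ^ k * d.z := by rw [d.z_sq, one_mul]
        _ = _ := by rw [d.z_inv]; group
    rw [h1, mul_assoc, ← mul_inv_rev, ← pow_add]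
    have h2 : r * r ^ (k + k) = 1 := by
      rw [← pow_succ', show k + k + 1 = 2 * k + 1 by omega, ← hk, pow_orderOf_eq_one]
    rw [← eq_inv_of_mul_eq_one_left h2, hr, ← mul_assoc, d.z_sq, one_mul]

end Setup

end Cfsg.Lib.SmallCent
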