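import Cfsg.Agent.S4481
import Cfsg.Agent.S4482
import Cfsg.Agent.Lib.Block.RegInt
import Cfsg.Agent.Lib.MEleven.Basic
import Cfsg.Agent.Lib.SmallCent.Core

/-!
The order formula, sharpened by the column of the element of order four.
-/

set_option autoImplicit false

namespace Cfsg.Lib.SmallCent.Setup

open Subgroup Cfsg.Lib.Char Cfsg.Lib.Block
open scoped ComplexConjugate

universe u

variable {G : Type u} [Group G] [Finite G] [IsSimpleGroup G] (d : Setup G)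

theorem order_data (hG : ¬ IsCyclic G) :
    ∃ (δ : ℤ) (m k : ℕ) (P : ℤ), (δ = 1 ∨ δ = -1) ∧ 1 ≤ m ∧ Odd k ∧
      Nat.card d.A + Nat.card d.swap.A = 2 * m * k ∧
      (Nat.card G : ℤ) = 8 * ((8 * m + δ) * (4 * m + δ)) * (Nat.card d.core : ℤ) * (k : ℤ) ^ 2 ∧
      P * ((k : ℤ) ^ 2 * (4 * m + δ) ^ 2 - 16 * (Nat.card d.core : ℤ)) =
        δ * (8 * m + δ) * k ^ 2 * (4 * m + δ) ^ 2 := by
  classical
  letI := Fintype.ofFinite G
  haveI : Fact (Nat.Prime 2) := ⟨Nat.prime_two⟩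
  obtain ⟨M, hM⟩ := Cfsg.Lib.Block.exists_isPModular Nat.prime_two
  obtain ⟨ζ, hζ⟩ : ∃ ζ : ℂ, IsPrimitiveRoot ζ (2 ^ (3 - 1)) :=
    ⟨_, Complex.isPrimitiveRoot_exp _ (by norm_num)⟩
  obtain ⟨-, χ₁, χ₂, χ₃, χ', δ₁, δ₂, δ₃, d1, d2, d3, -, n1, n2, n3, n12, n13, n23, -, hset, hv,
    hreg⟩ := Cfsg.Agent.S4481.result M hM 3 le_rfl d.S (by exact d.isDihedral) d.w d.hwS
      (by rw [d.hw]; norm_num) ζ hζ
  have hgen : closure ({d.w, d.τ} : Set G) = (d.S : Subgroup G) := by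
    refine le_antisymm ((closure_le _).2 ?_) fun s hs => ?_
    · rintro g (rfl | rfl)
      · exact d.hwS
      · exact d.hτS
    · have hw' : zpowers d.w ≤ closure ({d.w, d.τ} : Set G) := zpowers_le.2 (subset_closure (by simp))
      have ht' : d.τ ∈ closure ({d.w, d.τ} : Set G) := subset_closure (by simp)
      rcases d.mem_S hs with h | h
      · exact hw' h
      · have := mul_mem (hw' h) (inv_mem ht')
        rwa [mul_inv_cancel_right] at this
  have hz2 : d.w ^ (2 ^ (3 - 2)) = d.z := rfl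
  have hconj : IsConj (d.w ^ (2 ^ (3 - 2))) d.τ ∧ IsConj (d.w ^ (2 ^ (3 - 2))) (d.w * d.τ) := by
    rw [hz2]
    exact ⟨isConj_iff.2 (d.oneClass hG d.z_order d.hτ), isConj_iff.2 (d.oneClass hG d.z_order d.wτ_order)⟩
  have hχ₁B : χ₁ ∈ Cfsg.principalBlock M G := by
    rw [hset]; exact Or.inr (Or.inl rfl)
  obtain ⟨hxne, hord⟩ := Cfsg.Agent.S4482.result M hM 3 le_rfl d.S d.w d.τ d.hwS d.hτS
    (by rw [d.hw]; norm_num) d.hτ d.hrel hgen hconj χ₁ hχ₁B n1 δ₁ d1 fun l h0 h4 => (hv l h0 h4).1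
  rw [hz2] at hord
  obtain ⟨hw1, hw2, hw3, -⟩ := hv 1 one_pos (by norm_num)
  obtain ⟨hz1, hzv2, hzv3, -⟩ := hv 2 two_pos (by norm_num)
  rw [pow_one] at hw1 hw2 hw3
  rw [← Setup.z] at hz1 hzv2 hzv3
  norm_num at hw2 hw3 hzv2 hzv3
  -- degrees
  obtain ⟨x, hx⟩ : ∃ x : ℕ, x = Cfsg.charDegree (χ₁ : G → ℂ) := ⟨_, rfl⟩
  obtain ⟨x₂, hx₂⟩ : ∃ x₂ : ℕ, x₂ = Cfsg.charDegree (χ₂ : G → ℂ) := ⟨_, rfl⟩
  obtain ⟨x₃, hx₃⟩ : ∃ x₃ : ℕ, x₃ = Cfsg.charDegree (χ₃ : G → ℂ) := ⟨_, rfl⟩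
  rw [← hx] at hxne hord
  have hxC : (χ₁ : G → ℂ) 1 = (x : ℂ) := by rw [hx, χ₁.2.apply_one_eq_charDegree]
  have hx2C : (χ₂ : G → ℂ) 1 = (x₂ : ℂ) := by rw [hx₂, χ₂.2.apply_one_eq_charDegree]
  have hx3C : (χ₃ : G → ℂ) 1 = (x₃ : ℂ) := by rw [hx₃, χ₃.2.apply_one_eq_charDegree]
  have hpos : 0 < x := hx ▸ charDegree_pos χ₁
  have hpos2 : 0 < x₂ := hx₂ ▸ charDegree_pos χ₂
  have hpos3 : 0 < x₃ := hx₃ ▸ charDegree_pos χ₃
  obtain ⟨p, hp⟩ : ∃ p : ℤ, p = δ₂ * x₂ := ⟨_, rfl⟩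
  obtain ⟨q, hq⟩ : ∃ q : ℤ, q = δ₃ * x₃ := ⟨_, rfl⟩
  have hpq : p + q = -(1 + δ₁ * x) := by
    have e := (hreg 1 (by simp) ⟨0, by norm_num⟩).1
    rw [hxC, hx2C, hx3C] at e
    have : ((p + q : ℤ) : ℂ) = ((-(1 + δ₁ * (x : ℤ)) : ℤ) : ℂ) := by
      rw [hp, hq]; push_cast; linear_combination e
    exact_mod_cast this
  have hp0 : p ≠ 0 := by rw [hp]; rcases d2 with e | e <;> subst e <;> omega
  have hq0 : q ≠ 0 := by rw [hq]; rcases d3 with e | e <;> subst e <;> omega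
  -- the column of `w`
  set T : Finset (IrrCharacter G) := {trivChar G, χ₁, χ₂, χ₃}
  have t1 : χ₁ ≠ trivChar G := fun e => n1 (by rw [e, trivChar_coe])
  have t2 : χ₂ ≠ trivChar G := fun e => n2 (by rw [e, trivChar_coe])
  have t3 : χ₃ ≠ trivChar G := fun e => n3 (by rw [e, trivChar_coe])
  have hTsum : ∀ f : IrrCharacter G → ℂ,
      ∑ χ ∈ T, f χ = f (trivChar G) + (f χ₁ + (f χ₂ + f χ₃)) := fun f => by
    rw [Finset.sum_insert (by simp [t1.symm, t2.symm, t3.symm]),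
      Finset.sum_insert (by simp [n12, n13]), Finset.sum_pair n23]
  have hnorm : ∀ χ : IrrCharacter G, χ ∉ T → (χ : G → ℂ) d.w = 0 := by
    have hcol : ∑ χ : IrrCharacter G, Complex.normSq ((χ : G → ℂ) d.w) = 4 := by
      have h := column_orthogonality d.w d.w
      rw [if_pos (IsConj.refl _), d.hC] at h
      have h' : (((∑ χ : IrrCharacter G, Complex.normSq ((χ : G → ℂ) d.w)) : ℝ) : ℂ) = ((4 : ℝ) : ℂ) := by
        push_cast
        norm_num at h
        rw [← h]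
        exact Finset.sum_congr rfl fun χ _ => (Complex.mul_conj _).symm
      exact_mod_cast h'
    have hT4 : ∑ χ ∈ T, Complex.normSq ((χ : G → ℂ) d.w) = 4 := by
      rw [Finset.sum_insert (by simp [t1.symm, t2.symm, t3.symm]),
        Finset.sum_insert (by simp [n12, n13]), Finset.sum_pair n23, trivChar_coe, hw1, hw2, hw3]
      rcases d1 with e | e <;> rcases d2 with e' | e' <;> rcases d3 with e'' | e'' <;>
        subst e e' e'' <;> norm_num
    intro χ hχ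
    have hle : ∑ χ ∈ insert χ T, Complex.normSq ((χ : G → ℂ) d.w) ≤ 4 := by
      rw [← hcol]
      exact Finset.sum_le_univ_sum_of_nonneg fun _ => Complex.normSq_nonneg _
    rw [Finset.sum_insert hχ, hT4] at hle
    exact Complex.normSq_eq_zero.1 (le_antisymm (by linarith) (Complex.normSq_nonneg _))
  -- the number of ways to write `w` as a product of two involutions
  have hfour : ((classFinset d.z ×ˢ classFinset d.z).filter fun r => r.1 * r.2 = d.w).card = 4 := by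
    have hmemC : ∀ a, a ∈ classFinset d.z ↔ orderOf a = 2 := fun a => by
      rw [mem_classFinset]
      constructor
      · intro h
        obtain ⟨g, hg⟩ := isConj_iff.1 h
        have h1 : orderOf (g * a * g⁻¹) = orderOf a := Invol.orderOf_conj_eq g a
        first
          | (rw [hg, d.z_order] at h1; exact h1.symm)
          | (rw [← hg, Invol.orderOf_conj_eq, d.z_order])
      · intro h
        first
          | exact isConj_iff.2 (d.oneClass hG h d.z_order)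
          | exact isConj_iff.2 (d.oneClass hG d.z_order h)
    have hinv : ∀ a, a ∈ ({d.τ, d.z * d.τ, d.w * d.τ, d.z * (d.w * d.τ)} : Finset G) →
        orderOf a = 2 ∧ orderOf (a * d.w) = 2 := by
      have e1 : orderOf (d.z * d.τ) = 2 := by
        rw [← d.conj_w_τ, Invol.orderOf_conj_eq, d.hτ]
      have e2 : orderOf (d.z * (d.w * d.τ)) = 2 := by
        rw [← mul_assoc, ← d.w_z.eq, mul_assoc, ← d.conj_w_τ,
          show d.w * (d.w * d.τ * d.w⁻¹) = d.w * (d.w * d.τ) * d.w⁻¹ by group,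
          Invol.orderOf_conj_eq, d.wτ_order]
      intro a ha
      simp only [Finset.mem_insert, Finset.mem_singleton] at ha
      rcases ha with rfl | rfl | rfl | rfl
      · exact ⟨d.hτ, by rw [d.τ_w, mul_assoc]; exact e2⟩
      · refine ⟨e1, ?_⟩
        rw [mul_assoc, d.τ_w, ← mul_assoc, ← mul_assoc, d.z_sq, one_mul]
        exact d.wτ_order
      · refine ⟨d.wτ_order, ?_⟩
        rw [mul_assoc, d.τ_w, ← mul_assoc, ← mul_assoc, d.w_z.eq, mul_assoc d.z, ← pow_two, ← Setup.z,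
          d.z_sq, one_mul]
        exact d.hτ
      · refine ⟨e2, ?_⟩
        rw [mul_assoc, mul_assoc, d.τ_w, ← mul_assoc d.w, ← mul_assoc d.w, d.w_z.eq, mul_assoc d.z d.w,
          ← pow_two, ← Setup.z, d.z_sq, one_mul]
        exact e1
    rw [show 4 = ({d.τ, d.z * d.τ, d.w * d.τ, d.z * (d.w * d.τ)} : Finset G).card from ?_]
    · refine Finset.card_bij' (fun r _ => r.1) (fun a _ => (a, a * d.w)) ?_ ?_ ?_ ?_
      · intro r hr
        simp only [Finset.mem_filter, Finset.mem_product, hmemC] at hr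
        obtain ⟨⟨ha, hb⟩, hab⟩ := hr
        have e : r.2 = r.1 * d.w := by
          rw [← hab, ← mul_assoc, Invol.inv_mul_self ha, one_mul]
        rw [e] at hb
        have hfl : r.1 * d.w * r.1⁻¹ = d.w⁻¹ := by
          refine eq_inv_of_mul_eq_one_left ?_
          rw [Invol.inv_eq_self ha, ← Invol.inv_mul_self hb]
          group
        have hat : r.1 * d.τ ∈ zpowers d.w := d.mem_zpowers_w (mul_inv_eq_iff_eq_mul.1 (by
          rw [show r.1 * d.τ * d.w * (r.1 * d.τ)⁻¹ = r.1 * (d.τ * d.w * d.τ⁻¹) * r.1⁻¹ by group,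
            d.hrel, ← conj_inv, hfl, inv_inv]))
        have e' : r.1 = r.1 * d.τ * d.τ := by rw [mul_assoc, d.τ_sq, mul_one]
        simp only [Finset.mem_insert, Finset.mem_singleton]
        rcases eq_of_mem_zpowers_four d.hw hat with h | h | h | h <;> rw [h] at e'
        · exact Or.inl (by rw [e', one_mul])
        · exact Or.inr (Or.inr (Or.inl e'))
        · exact Or.inr (Or.inl e')
        · exact Or.inr (Or.inr (Or.inr (by rw [e', d.w_inv, mul_assoc])))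
      · intro a ha
        simp only [Finset.mem_filter, Finset.mem_product, hmemC]
        obtain ⟨ha1, ha2⟩ := hinv a ha
        exact ⟨⟨ha1, ha2⟩, by rw [← mul_assoc, Invol.inv_mul_self ha1, one_mul]⟩
      · intro r hr
        simp only [Finset.mem_filter, Finset.mem_product, hmemC] at hr
        refine Prod.ext rfl ?_
        show r.1 * d.w = r.2
        rw [← hr.2, ← mul_assoc, Invol.inv_mul_self hr.1.1, one_mul]
      · exact fun a _ => rfl
    · have hzτ := d.z_ne_τ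
      have hzw : ∀ a : G, d.z * a ≠ a := fun a h => Invol.ne_one d.z_order (mul_eq_right.1 h)
      have h1 : d.w * d.τ ≠ d.τ := fun h => by
        have := mul_eq_right.1 h
        rw [← orderOf_eq_one_iff, d.hw] at this
        omega
      have h2 : d.w * d.τ ≠ d.z * d.τ := fun h => by
        have := congrArg orderOf (mul_right_cancel h)
        rw [d.hw, d.z_order] at this
        omega
      have h3 : d.z * (d.w * d.τ) ≠ d.τ := fun h => h2 (by
        nth_rw 2 [← h]; rw [← mul_assoc, d.z_sq, one_mul])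
      have h4 : d.z * (d.w * d.τ) ≠ d.z * d.τ := fun h => h1 (mul_left_cancel h)
      rw [Finset.card_insert_of_notMem (by simp [h1.symm, (hzw _).symm, h3.symm]),
        Finset.card_insert_of_notMem (by simp [h2.symm, h4.symm]),
        Finset.card_insert_of_notMem (by simp [(hzw _).symm]), Finset.card_singleton]
  obtain ⟨c, hc⟩ : ∃ c : ℕ, c = Nat.card (centralizer ({d.z} : Set G)) := ⟨_, rfl⟩
  obtain ⟨K, hK⟩ : ∃ K : ℕ, K = (classFinset d.z).card := ⟨_, rfl⟩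
  have hKc : K * c = Nat.card G := by rw [hK, hc, card_classFinset, index_mul_card]
  have hGpos : (Nat.card G : ℂ) ≠ 0 := by exact_mod_cast Nat.card_pos.ne'
  have hcol : (4 * c ^ 2 : ℕ) = (Nat.card G : ℂ) * (1 + δ₁ / (x : ℂ) + 1 / (p : ℂ) + 1 / (q : ℂ)) := by
    have h := card_class_product d.z d.z d.w
    rw [hfour, ← hK] at h
    rw [← Finset.sum_subset (Finset.subset_univ T) fun χ _ hχ => by rw [hnorm χ hχ]; simp, hTsum,
      trivChar_coe, hz1, hzv2, hzv3, hw1, hw2, hw3, hxC, hx2C, hx3C] at h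
    simp only [map_one, map_intCast, map_natCast] at h
    rw [hp, hq]
    have hKC : (K : ℂ) * c = (Nat.card G : ℂ) := by exact_mod_cast hKc
    have hcC : (c : ℂ) ≠ 0 := by rw [hc]; exact_mod_cast Nat.card_pos.ne'
    have hxn : (x : ℂ) ≠ 0 := by exact_mod_cast hpos.ne'
    have hx2n : (x₂ : ℂ) ≠ 0 := by exact_mod_cast hpos2.ne'
    have hx3n : (x₃ : ℂ) ≠ 0 := by exact_mod_cast hpos3.ne'
    push_cast at h ⊢
    rw [← hKC] at h ⊢
    field_simp at h
    rcases d1 with e | e <;> rcases d2 with e' | e' <;> rcases d3 with e'' | e'' <;>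
      subst e e' e'' <;> push_cast at h ⊢ <;> field_simp <;> linear_combination h
  -- restriction to the Sylow subgroup
  have hmod : (8 : ℤ) ∣ (x : ℤ) + 7 * δ₁ := by
    letI := Fintype.ofFinite (d.S : Subgroup G)
    obtain ⟨n, hn⟩ := MEleven.exists_nat_sum χ₁ (d.S : Subgroup G)
    have hval : ∀ s : (d.S : Subgroup G), s ≠ 1 → (χ₁ : G → ℂ) s = δ₁ := by
      intro s hs1
      have hcl : ∀ g a : G, (χ₁ : G → ℂ) (g * a * g⁻¹) = (χ₁ : G → ℂ) a := fun g a => by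
        rw [χ₁.2.isClassFunction]
      have hinvol : ∀ a : G, orderOf a = 2 → (χ₁ : G → ℂ) a = δ₁ := fun a ha => by
        obtain ⟨g, hg⟩ := d.oneClass hG d.z_order ha
        rw [← hg, hcl, hz1]
      rcases d.mem_S s.2 with h | h
      · rcases eq_of_mem_zpowers_four d.hw h with e | e | e | e
        · exact absurd (Subtype.ext e) hs1
        · rw [e, hw1]
        · exact hinvol _ (e ▸ d.z_order)
        · rw [e]
          have e3 : d.w⁻¹ = d.τ * d.w * d.τ⁻¹ := d.hrel.symm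
          rw [e3, hcl, hw1]
      · refine hinvol _ (Invol.orderOf_eq_two_of (fun e => hs1 (Subtype.ext e)) ?_)
        obtain ⟨i, hi⟩ := h
        simp only at hi
        rw [show (s : G) = d.w ^ i * d.τ by rw [hi, mul_assoc, d.τ_sq, mul_one]]
        calc d.w ^ i * d.τ * (d.w ^ i * d.τ) = d.w ^ i * (d.τ * d.w * d.τ⁻¹) ^ i * (d.τ * d.τ) := by
              rw [conj_zpow]; group
          _ = 1 := by rw [d.hrel, inv_zpow, mul_inv_cancel, d.τ_sq, one_mul]
    rw [← Finset.add_sum_erase _ _ (Finset.mem_univ (1 : (d.S : Subgroup G))),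
      Finset.sum_congr rfl fun s hs => hval s (Finset.ne_of_mem_erase hs), Finset.sum_const,
      Finset.card_erase_of_mem (Finset.mem_univ _), Finset.card_univ, ← Nat.card_eq_fintype_card,
      d.hS8, nsmul_eq_mul, OneMemClass.coe_one, hxC] at hn
    refine ⟨n, ?_⟩
    have : (((x : ℤ) + 7 * δ₁ : ℤ) : ℂ) = ((8 * (n : ℤ) : ℤ) : ℂ) := by
      push_cast at hn ⊢; linear_combination hn
    exact_mod_cast this
  obtain ⟨-, hcoreodd, -, hcC, -⟩ := d.core_spec
  rw [← hc] at hcC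
  obtain ⟨o₁, ho₁⟩ : ∃ o₁, o₁ = Nat.card d.A := ⟨_, rfl⟩
  obtain ⟨o₂, ho₂⟩ : ∃ o₂, o₂ = Nat.card d.swap.A := ⟨_, rfl⟩
  obtain ⟨o, ho⟩ : ∃ o, o = Nat.card d.core := ⟨_, rfl⟩
  have hoo : o = o₁ * o₂ := by rw [ho, ho₁, ho₂]; exact d.card_core
  rw [← ho₁, ← ho₂, ← ho]
  rw [← ho] at hcC hcoreodd
  rw [← hc, show ({d.z, d.w * d.τ} : Set G) = {d.swap.z, d.swap.τ} from rfl, d.card_centralizer_pair,
    d.swap.card_centralizer_pair, ← ho₁, ← ho₂, hcC] at hord
  obtain ⟨m, hm⟩ : ∃ m : ℕ, 1 ≤ m ∧ (x : ℤ) = 8 * m + δ₁ := by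
    obtain ⟨e, he⟩ := hmod
    rcases d1 with r | r <;> subst r
    · exact ⟨(e - 1).toNat, by omega, by omega⟩
    · exact ⟨(e + 1).toNat, by omega, by omega⟩
  obtain ⟨hm1, hxm⟩ := hm
  -- the order
  have ho1pos : (o₁ : ℚ) ≠ 0 := by rw [ho₁]; exact_mod_cast Nat.card_pos.ne'
  have ho2pos : (o₂ : ℚ) ≠ 0 := by rw [ho₂]; exact_mod_cast Nat.card_pos.ne'
  have hxQ : ((x : ℕ) : ℚ) = 8 * (m : ℚ) + (δ₁ : ℚ) := by exact_mod_cast hxm
  have hordZ : (Nat.card G : ℤ) * m ^ 2 =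
      2 * ((8 * m + δ₁) * (4 * m + δ₁)) * o * ((o₁ : ℤ) + o₂) ^ 2 := by
    have : (Nat.card G : ℚ) * (m : ℚ) ^ 2 =
        2 * ((8 * (m : ℚ) + δ₁) * (4 * m + δ₁)) * o * ((o₁ : ℚ) + o₂) ^ 2 := by
      rw [hoo] at hord ⊢
      push_cast at hord ⊢
      rw [hxQ] at hord
      field_simp at hord
      apply mul_left_cancel₀ (show (1024 : ℚ) ≠ 0 by norm_num)
      linear_combination hord
    exact_mod_cast this
  have ho1odd : Odd o₁ := ho₁ ▸ d.A_odd
  have ho2odd : Odd o₂ := ho₂ ▸ d.swap.A_odd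
  obtain ⟨s, hs⟩ : ∃ s, o₁ + o₂ = 2 * s := (ho1odd.add_odd ho2odd).two_dvd
  obtain ⟨N, hN⟩ : 8 * o ∣ Nat.card G := hcC ▸ hc ▸ card_subgroup_dvd_card _
  have hNodd : Odd N := by
    rw [← Nat.not_even_iff_odd]
    intro h
    obtain ⟨r, rfl⟩ := h.two_dvd
    have h16 : 2 ^ 4 ∣ Nat.card G := ⟨o * r, by rw [hN]; ring⟩
    have := d.S.pow_dvd_card_of_pow_dvd_card h16
    rw [d.hS8] at this
    norm_num at this
  have hNm : (N : ℤ) * m ^ 2 = (8 * m + δ₁) * (4 * m + δ₁) * s ^ 2 := by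
    rw [hN, show ((o₁ : ℤ) + o₂) = 2 * s by exact_mod_cast hs] at hordZ
    push_cast at hordZ
    have ho0 : (8 * (o : ℤ)) ≠ 0 := by
      have := hcoreodd.pos; omega
    apply mul_left_cancel₀ ho0
    linarith only [hordZ, show 8 * (o : ℤ) * ((N : ℤ) * m ^ 2) = 8 * o * N * m ^ 2 by ring,
      show 2 * ((8 * (m : ℤ) + δ₁) * (4 * m + δ₁)) * o * (2 * (s : ℤ)) ^ 2 =
        8 * o * ((8 * m + δ₁) * (4 * m + δ₁) * s ^ 2) by ring]
  have hmK : IsCoprime ((m : ℤ) ^ 2) ((8 * m + δ₁) * (4 * m + δ₁)) := by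
    refine IsCoprime.pow_left (IsCoprime.mul_right ?_ ?_)
    · rcases d1 with r | r <;> subst r
      · exact ⟨-8, 1, by ring⟩
      · exact ⟨8, -1, by ring⟩
    · rcases d1 with r | r <;> subst r
      · exact ⟨-4, 1, by ring⟩
      · exact ⟨4, -1, by ring⟩
  obtain ⟨k, hk⟩ : m ∣ s := by
    have h1 : (m : ℤ) ^ 2 ∣ (s : ℤ) ^ 2 :=
      hmK.dvd_of_dvd_mul_left ⟨N, by linarith⟩
    exact_mod_cast (Int.pow_dvd_pow_iff two_ne_zero).1 h1
  have hNk : (N : ℤ) = (8 * m + δ₁) * (4 * m + δ₁) * k ^ 2 := by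
    rw [hk] at hNm
    push_cast at hNm
    exact mul_right_cancel₀ (pow_ne_zero 2 (show (m : ℤ) ≠ 0 by omega))
      (by linear_combination hNm)
  have hkodd : Odd k := by
    have h1 : Odd ((N : ℤ)) := by exact_mod_cast hNodd
    rw [hNk, Int.odd_mul, Int.odd_pow' two_ne_zero] at h1
    exact_mod_cast h1.2
  refine ⟨δ₁, m, k, p * q, d1, hm1, hkodd, by rw [hs, hk]; ring, ?_, ?_⟩
  · rw [hN]; push_cast; rw [hNk]; ring
  · have hGC : (Nat.card G : ℂ) = 8 * ((8 * (m : ℂ) + δ₁) * (4 * m + δ₁)) * o * (k : ℂ) ^ 2 := by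
      have : (Nat.card G : ℤ) = 8 * ((8 * m + δ₁) * (4 * m + δ₁)) * o * (k : ℤ) ^ 2 := by
        rw [hN]; push_cast; rw [hNk]; ring
      exact_mod_cast this
    rw [hcC, hGC] at hcol
    have hpC : (p : ℂ) ≠ 0 := by exact_mod_cast hp0
    have hqC : (q : ℂ) ≠ 0 := by exact_mod_cast hq0
    have hxn : (x : ℂ) ≠ 0 := by exact_mod_cast hpos.ne'
    have hxc : (x : ℂ) = 8 * (m : ℂ) + δ₁ := by exact_mod_cast hxm
    have hpqC : (p : ℂ) + q = -(1 + δ₁ * x) := by exact_mod_cast hpq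
    have hoC : (o : ℂ) ≠ 0 := by exact_mod_cast hcoreodd.pos.ne'
    have hδsq : (δ₁ : ℂ) * δ₁ = 1 := by rcases d1 with r | r <;> subst r <;> norm_num
    push_cast at hcol
    field_simp at hcol
    suffices ((p * q * ((k : ℤ) ^ 2 * (4 * m + δ₁) ^ 2 - 16 * (o : ℤ)) : ℤ) : ℂ) =
        ((δ₁ * (8 * m + δ₁) * k ^ 2 * (4 * m + δ₁) ^ 2 : ℤ) : ℂ) by exact_mod_cast this
    push_cast
    rw [hxc] at hcol hpqC hxn
    apply mul_left_cancel₀ (mul_ne_zero (show (2 : ℂ) ≠ 0 by norm_num) hxn)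
    linear_combination (-1 : ℂ) * hcol -
      (8 * (m : ℂ) + δ₁) * (4 * m + δ₁) * (k : ℂ) ^ 2 * (8 * m + δ₁) * hpqC -
      (8 * (m : ℂ) + δ₁) * (4 * m + δ₁) * (k : ℂ) ^ 2 * (8 * m + δ₁) * hδsq

end Cfsg.Lib.SmallCent.Setup
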