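import Cfsg.Agent.Lib.SmallCent.Count

/-!
The action of `G` on the cosets of `X⟨w⟩`: `w` fixes one point and moves the others in cycles
controlled by the centralizer of `z`.
-/

set_option autoImplicit false

namespace Cfsg.Lib.SmallCent.Setup

open Subgroup MulAction

universe u

variable {G : Type u} [Group G] [Finite G] (d : Setup G)

/-- Conjugation by elements of `C(z)` preserves `B` up to inversion. -/
theorem conj_B {c b : G} (hc : Commute c d.z) (hb : b ∈ d.swap.A) :
    c * b * c⁻¹ = b ∨ c * b * c⁻¹ = b⁻¹ := by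
  obtain ⟨hbc, hbτ⟩ := d.mem_swap_A.1 hb
  obtain ⟨y, hy, s, hs, rfl⟩ := d.core_spec.2.2.2.2 c hc
  have key : s * b * s⁻¹ = b ∨ s * b * s⁻¹ = b⁻¹ := by
    let P : Subgroup G :=
      { carrier := {g | g * b * g⁻¹ = b ∨ g * b * g⁻¹ = b⁻¹}
        one_mem' := Or.inl (by group)
        mul_mem' := by
          rintro g h (hg | hg) (hh | hh) <;>
            simp only [Set.mem_setOf_eq] <;>
            rw [show g * h * b * (g * h)⁻¹ = g * (h * b * h⁻¹) * g⁻¹ by group, hh] <;>
            simp only [← conj_inv, hg, inv_inv] <;> tauto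
        inv_mem' := by
          rintro g (hg | hg)
          · left; nth_rw 1 [← hg]; group
          · right
            have e : g * b⁻¹ * g⁻¹ = b := by rw [← conj_inv, hg, inv_inv]
            nth_rw 1 [← e]; group }
    have hτP : d.τ ∈ P := Or.inr hbτ
    have hwP : d.w ∈ P := Or.inr (d.core_inverted hbc)
    rcases d.mem_S hs with h | h
    · exact (zpowers_le.2 hwP) h
    · have := P.mul_mem ((zpowers_le.2 hwP) h) (P.inv_mem hτP)
      rwa [mul_inv_cancel_right] at this
  have hyc : ∀ e : G, e ∈ d.core → y * e * y⁻¹ = e := fun e he => by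
    rw [(d.core_comm hy he).eq, mul_inv_cancel_right]
  rw [show y * s * b * (y * s)⁻¹ = y * (s * b * s⁻¹) * y⁻¹ by group]
  rcases key with e | e <;> rw [e]
  · exact Or.inl (hyc b hbc)
  · exact Or.inr (hyc _ (inv_mem hbc))

variable [IsSimpleGroup G] (hG : ¬ IsCyclic G) (hA : d.A ≠ ⊥)
include hG hA

theorem mem_H_of_conj_mem_X {g : G} (h : g⁻¹ * d.z * g ∈ d.X) : g ∈ d.H := by
  have ho : orderOf (g⁻¹ * d.z * g) = 2 := by
    have h1 := Invol.orderOf_conj_eq g⁻¹ d.z
    rw [inv_inv] at h1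
    rw [h1, d.z_order]
  obtain ⟨x, hx, e⟩ := d.X_oneClass hG hA h ho
  have hc : Commute (g * x) d.z := by
    refine mul_inv_eq_iff_eq_mul.1 ?_
    rw [show g * x * d.z * (g * x)⁻¹ = g * (x * d.z * x⁻¹) * g⁻¹ by group, e]
    group
  have h1 : g * x ∈ d.H := d.mem_centralizer_cases hA hc
  simpa using mul_mem h1 (inv_mem (d.X_le_H hx))

theorem H_invol {j : G} (hjH : j ∈ d.H) (hjX : j ∉ d.X) (hj : orderOf j = 2) :
    ∃ h ∈ d.H, h * j * h⁻¹ = d.w * d.τ := by
  obtain ⟨hz, hτ', hw', -, -⟩ := d.X_basic hA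
  have hCH : ∀ c, Commute c d.z → c ∈ d.H := fun c hc => d.mem_centralizer_cases hA hc
  have htH : d.w * d.τ ∈ d.H := mul_mem d.w_mem_H (d.X_le_H hτ')
  have htX : d.w * d.τ ∉ d.X := fun h => hw' (by
    simpa [mul_assoc, d.τ_sq] using mul_mem h hτ')
  have hnormal : ∀ h ∈ d.H, ∀ x ∈ d.X, h * x * h⁻¹ ∈ d.X := by
    intro h hh x hx
    rcases hh with hh | hh
    · exact mul_mem (mul_mem hh hx) (inv_mem hh)
    · have := mul_mem (mul_mem hh (d.conj_w_X hx).2) (inv_mem hh)
      rwa [show h * d.w * (d.w⁻¹ * x * d.w) * (h * d.w)⁻¹ = h * x * h⁻¹ by group] at this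
  have hout : ∀ k ∈ d.H, k ∉ d.X → orderOf k = 2 → Commute k d.z →
      ∃ h ∈ d.H, h * k * h⁻¹ = d.w * d.τ := by
    intro k hk hkX hk2 hkz
    rcases d.invol_conj hk2 hkz with e | ⟨c, hc, e | e⟩
    · exact absurd (e ▸ hz) hkX
    · refine absurd ?_ hkX
      have := hnormal c⁻¹ (inv_mem (hCH c hc)) _ (e.symm ▸ hτ' : c * k * c⁻¹ ∈ d.X)
      simpa [mul_assoc] using this
    · exact ⟨c, hCH c hc, e⟩
  set r := d.w * d.τ * j with hr
  have hrX : r ∈ d.X := by
    rcases htH with h | h
    · exact absurd h htX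
    rcases hjH with h' | h'
    · exact absurd h' hjX
    have := mul_mem (mul_mem h (d.conj_w_X h').2) (inv_mem d.w_sq_mem_X)
    rwa [show d.w * d.τ * d.w * (d.w⁻¹ * (j * d.w) * d.w) * (d.w * d.w)⁻¹ = d.w * d.τ * j by group]
      at this
  have hflip : ∀ i : ℕ, d.w * d.τ * r ^ i * (d.w * d.τ)⁻¹ = (r ^ i)⁻¹ := fun i => by
    rw [← conj_pow, hr, Invol.conj_mul_left d.wτ_order hj, inv_pow]
  rcases Nat.even_or_odd' (orderOf r) with ⟨k, hk | hk⟩
  · have hkpos : 0 < k := by have := orderOf_pos r; omega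
    set u := r ^ k
    have hu : orderOf u = 2 := by
      rw [orderOf_pow_of_dvd hkpos.ne' (hk ▸ dvd_mul_left k 2), hk, Nat.mul_div_cancel _ hkpos]
    have hut : Commute u (d.w * d.τ) := by
      have h1 := hflip k
      rw [Invol.inv_eq_self hu] at h1
      exact (mul_inv_eq_iff_eq_mul.1 h1).symm
    have huj : Commute u j := by
      have h1 := hut.mul_right (Commute.pow_self r k)
      rwa [hr, ← mul_assoc, d.wτ_sq, one_mul] at h1
    obtain ⟨x, hx, hxu⟩ := d.X_oneClass hG hA (pow_mem hrX k) hu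
    have key : ∀ q, q ∈ d.H → q ∉ d.X → orderOf q = 2 → Commute u q →
        ∃ h ∈ d.H, h * q * h⁻¹ = d.w * d.τ := by
      intro q hq hqX hq2 huq
      have hxH := d.X_le_H hx
      obtain ⟨h, hh, e⟩ := hout (x⁻¹ * q * x) (mul_mem (mul_mem (inv_mem hxH) hq) hxH)
        (fun h => hqX (by simpa [mul_assoc] using mul_mem (mul_mem hx h) (inv_mem hx)))
        (by
          have h1 := Invol.orderOf_conj_eq x⁻¹ q
          rw [inv_inv] at h1
          rw [h1, hq2])
        (by
          have h1 := huq.symm.map (MulAut.conj x⁻¹).toMonoidHom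
          change Commute (x⁻¹ * q * x⁻¹⁻¹) (x⁻¹ * u * x⁻¹⁻¹) at h1
          rw [show x⁻¹ * u * x⁻¹⁻¹ = d.z by rw [show u = _ from hxu.symm]; group, inv_inv] at h1
          exact h1)
      exact ⟨h * x⁻¹, mul_mem hh (inv_mem hxH), by rw [← e]; group⟩
    exact key j hjH hjX hj huj
  · refine ⟨r ^ (k + 1), d.X_le_H (pow_mem hrX _), ?_⟩
    have h1 : r ^ (k + 1) * r ^ (k + 1) = r := by
      rw [← pow_add, show k + 1 + (k + 1) = 2 * k + 1 + 1 by omega, ← hk, pow_succ,
        pow_orderOf_eq_one, one_mul]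
    have hj' : j = d.w * d.τ * r := by rw [hr, ← mul_assoc, d.wτ_sq, one_mul]
    have h2 : r ^ (k + 1) * (d.w * d.τ) = d.w * d.τ * (r ^ (k + 1))⁻¹ := by
      rw [← hflip (k + 1), Invol.inv_eq_self d.wτ_order]
      calc r ^ (k + 1) * (d.w * d.τ)
          = d.w * d.τ * (d.w * d.τ) * r ^ (k + 1) * (d.w * d.τ) := by rw [d.wτ_sq, one_mul]
        _ = _ := by group
    calc r ^ (k + 1) * j * (r ^ (k + 1))⁻¹
        = r ^ (k + 1) * (d.w * d.τ) * (r * (r ^ (k + 1))⁻¹) := by rw [hj']; group
      _ = d.w * d.τ * ((r ^ (k + 1))⁻¹ * (r * (r ^ (k + 1))⁻¹)) := by rw [h2]; group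
      _ = d.w * d.τ := by
        nth_rw 2 [← h1]
        group

/-- The shape of the action of `G` on the cosets of `H`. -/
theorem cosets_shape (hB : d.swap.A ≠ ⊥) :
    ∃ a b : ℕ, d.H.index = 1 + 2 * a + 4 * b ∧ Odd a ∧ Odd b ∧ 3 ≤ b ∧
      (a = 1 → ∃ v : G, v * d.z * v⁻¹ = d.w * d.τ ∧
        v * (d.w * d.τ) * v⁻¹ = d.z * (d.w * d.τ) ∧ v * (d.z * (d.w * d.τ)) * v⁻¹ = d.z ∧
        (∀ e ∈ d.swap.A, v * e * v⁻¹ = e) ∧ ∀ y ∈ d.core, v * y * v⁻¹ ∈ d.X) := by
  classical
  obtain ⟨hz, hτ', hw', hcoreX, -⟩ := d.X_basic hA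
  haveI : Fact (Nat.Prime 2) := ⟨Nat.prime_two⟩
  obtain ⟨v, hv1, hv2, hv3, hvB⟩ := d.swap.exists_triality hG
  change v * d.z * v⁻¹ = d.w * d.τ at hv1
  change v * (d.w * d.τ) * v⁻¹ = d.z * (d.w * d.τ) at hv2
  change v * (d.z * (d.w * d.τ)) * v⁻¹ = d.z at hv3
  letI := Fintype.ofFinite (G ⧸ d.H)
  have hcore := d.core_spec
  set q0 : G ⧸ d.H := ((1 : G) : G ⧸ d.H) with hq0
  set q1 : G ⧸ d.H := ((v⁻¹ : G) : G ⧸ d.H) with hq1
  have hfixiff : ∀ g x : G, x • ((g : G) : G ⧸ d.H) = (g : G ⧸ d.H) ↔ g⁻¹ * x * g ∈ d.H := by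
    intro g x
    rw [MulAction.Quotient.smul_coe, smul_eq_mul, eq_comm, QuotientGroup.eq, mul_assoc]
  have hfix0 : ∀ x ∈ d.H, x • q0 = q0 := fun x hx => (hfixiff 1 x).2 (by simpa using hx)
  have heq0 : ∀ g : G, g ∈ d.H → ((g : G) : G ⧸ d.H) = q0 := fun g hg =>
    QuotientGroup.eq.2 (by simpa using hg)
  have hzH := d.X_le_H hz
  have htX : d.w * d.τ ∉ d.X := fun h => hw' (by
    simpa [mul_assoc, d.τ_sq] using mul_mem h hτ')
  have hne : q1 ≠ q0 := by
    intro h
    rw [hq1, hq0, QuotientGroup.eq, mul_one, inv_inv] at h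
    refine htX ?_
    rw [← hv1]
    rcases h with h | h
    · exact mul_mem (mul_mem h hz) (inv_mem h)
    · have := mul_mem (mul_mem h hz) (inv_mem h)
      rwa [show v * d.w * d.z * (v * d.w)⁻¹ = v * (d.w * d.z * d.w⁻¹) * v⁻¹ by group, d.w_z.eq,
        mul_inv_cancel_right] at this
  -- the fixed point of `w`
  have hwfix : ∀ q : G ⧸ d.H, d.w • q = q → q = q0 := by
    intro q hq
    obtain ⟨g, rfl⟩ := QuotientGroup.mk_surjective q
    rw [hfixiff] at hq
    refine heq0 g (d.mem_H_of_conj_mem_X hG hA ?_)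
    have e : g⁻¹ * d.z * g = (g⁻¹ * d.w * g) * (g⁻¹ * d.w * g) := by rw [z, pow_two]; group
    rw [e]
    rcases hq with h | h
    · exact mul_mem h h
    · have := mul_mem (mul_mem h (d.conj_w_X h).2) (inv_mem d.w_sq_mem_X)
      convert this using 1
      group
  set C := centralizer ({d.z} : Set G) with hC
  have hCz : ∀ c : C, Commute (c : G) d.z := fun c => mem_centralizer_singleton_iff.1 c.2
  have hCH : ∀ c : C, (c : G) ∈ d.H := fun c => d.mem_centralizer_cases hA (hCz c)
  have hvfix : d.z • q1 = q1 := (hfixiff _ _).2 (by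
    rw [inv_inv, hv1]; exact mul_mem d.w_mem_H (d.X_le_H hτ'))
  -- the fixed points of `z`
  have hzfix : ∀ q : G ⧸ d.H, d.z • q = q ↔ q = q0 ∨ q ∈ orbit C q1 := by
    intro q
    constructor
    · intro hq
      obtain ⟨g, rfl⟩ := QuotientGroup.mk_surjective q
      rw [hfixiff] at hq
      by_cases hgX : g⁻¹ * d.z * g ∈ d.X
      · exact Or.inl (heq0 g (d.mem_H_of_conj_mem_X hG hA hgX))
      obtain ⟨h, hh, e⟩ := d.H_invol hG hA hq hgX (by
        have h1 := Invol.orderOf_conj_eq g⁻¹ d.z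
        rw [inv_inv] at h1
        rw [h1, d.z_order])
      refine Or.inr ⟨⟨g * h⁻¹ * v, mem_centralizer_singleton_iff.2 (mul_inv_eq_iff_eq_mul.1 ?_)⟩, ?_⟩
      · calc g * h⁻¹ * v * d.z * (g * h⁻¹ * v)⁻¹ = g * h⁻¹ * (v * d.z * v⁻¹) * h * g⁻¹ := by group
          _ = d.z := by rw [hv1, ← e]; group
      · show (((g * h⁻¹ * v) * v⁻¹ : G) : G ⧸ d.H) = (g : G ⧸ d.H)
        rw [mul_inv_cancel_right]
        exact QuotientGroup.eq.2 (by simpa using hh)
    · rintro (rfl | ⟨c, rfl⟩)
      · exact hfix0 _ hzH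
      · show d.z • (c : G) • q1 = (c : G) • q1
        rw [← mul_smul, (hCz c).symm.eq, mul_smul, hvfix]
  have h0orb : q0 ∉ orbit C q1 := by
    rintro ⟨c, hc⟩
    refine hne (smul_left_cancel (c : G) ?_)
    rw [hfix0 _ (hCH c)]
    exact hc
  -- `B` fixes them all
  have hBfix : ∀ e ∈ d.swap.A, ∀ q : G ⧸ d.H, d.z • q = q → e • q = q := by
    intro e he q hq
    have heH : ∀ e' ∈ d.swap.A, e' ∈ d.H := fun e' he' =>
      d.X_le_H (hcoreX _ (d.mem_swap_A.1 he').1)
    rcases (hzfix q).1 hq with rfl | ⟨c, rfl⟩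
    · exact hfix0 _ (heH e he)
    show e • (c : G) • q1 = (c : G) • q1
    have hce : (c : G)⁻¹ * e * c ∈ d.swap.A := by
      have h1 := d.conj_B (c := (c : G)⁻¹) (hCz c).inv_left he
      rw [inv_inv] at h1
      rcases h1 with h | h <;> rw [h]
      · exact he
      · exact inv_mem he
    rw [← mul_smul, show e * (c : G) = c * ((c : G)⁻¹ * e * c) by group, mul_smul]
    congr 1
    refine (hfixiff _ _).2 ?_
    rw [inv_inv, hvB _ hce]
    exact heH _ hce
  -- the size of the orbit
  have hdvd : Nat.card (orbit C q1) ∣ 2 * Nat.card d.A := by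
    have hst : (centralizer ({d.z, d.w * d.τ} : Set G)).subgroupOf C ≤ stabilizer C q1 := by
      intro c hc
      rw [mem_subgroupOf, mem_centralizer_iff] at hc
      rw [mem_stabilizer_iff]
      show (c : G) • q1 = q1
      refine (hfixiff _ _).2 ?_
      rw [inv_inv]
      refine d.mem_centralizer_cases hA (c := v * c * v⁻¹) ?_
      have hcz : Commute (c : G) d.z := hCz c
      have hct : Commute (c : G) (d.w * d.τ) := (hc _ (by simp)).symm
      have := (hcz.mul_right hct).map (MulAut.conj v).toMonoidHom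
      rw [← hv3]
      exact this
    have h1 : (stabilizer C q1).index ∣ ((centralizer ({d.z, d.w * d.τ} : Set G)).subgroupOf C).index :=
      index_dvd_of_le hst
    rw [index_stabilizer, ← Nat.card_coe_set_eq] at h1
    refine h1.trans ?_
    have hle : centralizer ({d.z, d.w * d.τ} : Set G) ≤ C := fun c hc =>
      mem_centralizer_singleton_iff.2 (mem_centralizer_iff.1 hc d.z (by simp)).symm
    have h2 := ((centralizer ({d.z, d.w * d.τ} : Set G)).subgroupOf C).card_mul_index
    have h3 : Nat.card (centralizer ({d.z, d.w * d.τ} : Set G)) = 4 * Nat.card d.swap.A :=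
      d.swap.card_centralizer_pair
    rw [Nat.card_congr (subgroupOfEquivOfLe hle).toEquiv, h3, hcore.2.2.2.1, d.card_core] at h2
    rw [show ((centralizer ({d.z, d.w * d.τ} : Set G)).subgroupOf C).index = 2 * Nat.card d.A from
      Nat.eq_of_mul_eq_mul_left (Nat.mul_pos (by norm_num : 0 < 4)
        (Nat.card_pos : 0 < Nat.card d.swap.A)) (by rw [h2]; ring)]
  -- the involution induced by `w` on the orbit
  set π := MulAction.toPermHom G (G ⧸ d.H) d.w
  have hπ : ∀ q, π q = d.w • q := fun q => rfl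
  have hπ2 : ∀ q, π (π q) = d.z • q := fun q => by
    rw [hπ, hπ, ← mul_smul, ← pow_two]; rfl
  have hπ4 : π ^ 4 = 1 := by rw [← map_pow, d.w_pow_four, map_one]
  set P : G ⧸ d.H → Prop := fun q => d.z • q = q with hP
  have hPinv : ∀ q, P (π q) ↔ P q := fun q => by
    simp only [hP, hπ]
    rw [← mul_smul, ← d.w_z.eq, mul_smul]
    exact ⟨fun h => smul_left_cancel _ h, fun h => by rw [h]⟩
  set π₁ : Equiv.Perm {q // P q} := π.subtypePerm hPinv
  set π₂ : Equiv.Perm {q // ¬ P q} := π.subtypePerm (fun q => not_congr (hPinv q))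
  have hsplit : π = π₁.subtypeCongr π₂ := by
    ext q
    by_cases hq : P q
    · rw [Equiv.Perm.subtypeCongr.left_apply _ _ hq]; rfl
    · rw [Equiv.Perm.subtypeCongr.right_apply _ _ hq]; rfl
  -- fixed points of `z`: the base and an orbit of even size
  have hcardP : Fintype.card {q // P q} = Nat.card (orbit C q1) + 1 := by
    rw [← Nat.card_eq_fintype_card, ← Set.coe_setOf P, Nat.card_coe_set_eq, Nat.card_coe_set_eq,
      show {q | P q} = insert q0 (orbit C q1) from Set.ext fun q => by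
        rw [Set.mem_setOf_eq, Set.mem_insert_iff]; exact hzfix q,
      Set.ncard_insert_of_notMem h0orb]
  have hπ1sq : π₁ ^ 2 = 1 := by
    ext q
    show ((π₁ ^ 2) q : G ⧸ d.H) = q
    rw [pow_two, Equiv.Perm.mul_apply]
    exact (hπ2 q.1).trans q.2
  have hsupp1 : π₁.support = Finset.univ.erase ⟨q0, hfix0 _ hzH⟩ := by
    ext q
    rw [Equiv.Perm.mem_support, Finset.mem_erase, and_iff_left (Finset.mem_univ _)]
    refine not_congr ⟨fun h => Subtype.ext (hwfix _ (congrArg Subtype.val h)), fun h => ?_⟩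
    subst h
    exact Subtype.ext (hfix0 _ d.w_mem_H)
  have hct1 : π₁.cycleType = Multiset.replicate (Multiset.card π₁.cycleType) 2 :=
    Multiset.eq_replicate_card.2 fun n hn => by
      have hd : n ∣ 2 := (Equiv.Perm.dvd_of_mem_cycleType hn).trans (orderOf_dvd_of_pow_eq_one hπ1sq)
      have h2 := Equiv.Perm.two_le_of_mem_cycleType hn
      have := Nat.le_of_dvd two_pos hd
      omega
  have hsum1 : 2 * Multiset.card π₁.cycleType = Nat.card (orbit C q1) := by
    have h := π₁.sum_cycleType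
    rw [hct1, Multiset.sum_replicate, smul_eq_mul, hsupp1, Finset.card_erase_of_mem
      (Finset.mem_univ _), Finset.card_univ, hcardP, Nat.add_sub_cancel] at h
    omega
  have hct2 : π₂.cycleType = Multiset.replicate (Multiset.card π₂.cycleType) 4 :=
    Multiset.eq_replicate_card.2 fun n hn => by
      have hd : n ∣ 4 := (Equiv.Perm.dvd_of_mem_cycleType hn).trans (orderOf_dvd_of_pow_eq_one (by
        ext q
        show ((π₂ ^ 4) q : G ⧸ d.H) = q
        rw [show (4 : ℕ) = 1 + 1 + 1 + 1 by norm_num, pow_add, pow_add, pow_add, pow_one,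
          Equiv.Perm.mul_apply, Equiv.Perm.mul_apply, Equiv.Perm.mul_apply]
        show π (π (π (π q.1))) = q.1
        rw [hπ2, hπ2, ← mul_smul, d.z_sq, one_smul]))
      have h2 := Equiv.Perm.two_le_of_mem_cycleType hn
      have h4 := Nat.le_of_dvd (by norm_num) hd
      interval_cases n
      · exfalso
        obtain ⟨c, τ', he, hdis, hcyc, hcard⟩ := Equiv.Perm.mem_cycleType_iff.1 hn
        obtain ⟨q, hq⟩ : c.support.Nonempty := Finset.card_pos.1 (by omega)
        have hτq : τ' q = q := (hdis q).resolve_left (Equiv.Perm.mem_support.1 hq)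
        have hcq : c q ∈ c.support := Equiv.Perm.apply_mem_support.2 hq
        have hτcq : τ' (c q) = c q := (hdis _).resolve_left (Equiv.Perm.mem_support.1 hcq)
        have hcc : c (c q) = q := by
          have h := hcyc.orderOf
          rw [hcard] at h
          rw [← Equiv.Perm.mul_apply, ← pow_two, ← h, pow_orderOf_eq_one, Equiv.Perm.one_apply]
        have : π₂ (π₂ q) = q := by
          rw [he, Equiv.Perm.mul_apply, Equiv.Perm.mul_apply, hτq, hτcq, hcc]
        exact q.2 ((hπ2 q.1).symm.trans (congrArg Subtype.val this))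
      · norm_num at hd
      · rfl
  have hsum2 : 4 * Multiset.card π₂.cycleType = Fintype.card {q // ¬ P q} := by
    have h := π₂.sum_cycleType
    have hu : π₂.support = Finset.univ := by
      ext q
      simp only [Equiv.Perm.mem_support, Finset.mem_univ, iff_true]
      intro h
      have h' : π q.1 = q.1 := congrArg Subtype.val h
      exact q.2 (by show d.z • q.1 = q.1; rw [← hπ2, h', h'])
    rw [hct2, Multiset.sum_replicate, smul_eq_mul, hu, Finset.card_univ] at h
    omega
  obtain ⟨a, ha⟩ : ∃ a, a = Multiset.card π₁.cycleType := ⟨_, rfl⟩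
  obtain ⟨b, hb⟩ : ∃ b, b = Multiset.card π₂.cycleType := ⟨_, rfl⟩
  rw [← ha] at hsum1 hct1
  rw [← hb] at hsum2 hct2
  have hn : d.H.index = 1 + 2 * a + 4 * b := by
    have h := Fintype.card_subtype_compl P
    have h2 := Fintype.card_subtype_le P
    rw [index_eq_card, Nat.card_eq_fintype_card]
    omega
  have haodd : Odd a := by
    have h : a ∣ Nat.card d.A := by
      have := hsum1 ▸ hdvd
      exact Nat.dvd_of_mul_dvd_mul_left two_pos this
    exact d.A_odd.of_dvd_nat h
  have hbig : 2 < Nat.card G :=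
    lt_of_lt_of_le (by rw [d.hC]; norm_num) (card_le_card_group (centralizer ({d.w} : Set G)))
  have hbodd : Odd b := by
    have hs : Equiv.Perm.sign π = 1 :=
      Small.PSLTwoRecog.sign_eq_one hbig (MulAction.toPermHom G (G ⧸ d.H)) d.w
    rw [hsplit, Equiv.Perm.sign_subtypeCongr, Equiv.Perm.sign_of_cycleType,
      Equiv.Perm.sign_of_cycleType, hct1, hct2] at hs
    simp only [Multiset.sum_replicate, Multiset.card_replicate, smul_eq_mul] at hs
    rw [← pow_add, neg_one_pow_eq_one_iff_even (by decide)] at hs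
    obtain ⟨i, hi⟩ := haodd
    rcases Nat.even_or_odd b with ⟨l, hl⟩ | h
    · exfalso
      obtain ⟨u, hu⟩ := hs
      omega
    · exact h
  refine ⟨a, b, hn, haodd, hbodd, ?_, fun ha1 => ?_⟩
  · by_contra hlt
    have hb1 : b = 1 := by obtain ⟨l, hl⟩ := hbodd; omega
    subst hb1
    obtain ⟨⟨e, he⟩, he1⟩ := ne_bot_iff_exists_ne_one.1 hB
    refine he1 (Subtype.ext ?_)
    show e = 1
    have hker : ∀ g : G, (∀ q : G ⧸ d.H, g • q = q) → g = 1 := by
      intro g hg
      rcases (MulAction.toPermHom G (G ⧸ d.H)).normal_ker.eq_bot_or_eq_top with hk | hk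
      · rw [← mem_bot, ← hk, MonoidHom.mem_ker]
        exact Equiv.ext hg
      · exfalso
        refine d.H_ne_top hA hG (eq_top_iff.2 fun x _ => ?_)
        have hx : MulAction.toPermHom G (G ⧸ d.H) x = 1 := MonoidHom.mem_ker.1 (hk ▸ mem_top x)
        have := (hfixiff 1 x).1 (Equiv.congr_fun hx q0)
        simpa using this
    have hez : Commute e d.z := (d.mem_core.1 (d.mem_swap_A.1 he).1).2
    have hfour : ∀ q : G ⧸ d.H, e ^ 4 • q = q := by
      intro q
      by_cases hq : P q
      · exact hBfix _ (pow_mem he 4) q hq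
      have hstab : ∀ p, ¬ P p → ¬ P (e • p) := fun p hp h => hp (by
        simp only [hP] at h ⊢
        rw [← mul_smul, ← hez.eq, mul_smul] at h
        exact smul_left_cancel _ h)
      have hzq : ∀ p, ¬ P p → ¬ P (d.z • p) := fun p hp h => hp (smul_left_cancel _ h)
      -- at most two orbits of `z` among the four moved points
      have hpair : ∀ p₁ p₂ p₃ : {q // ¬ P q}, (p₂ : G ⧸ d.H) ≠ p₁ → (p₂ : G ⧸ d.H) ≠ d.z • p₁.1 →
          p₃.1 = p₁.1 ∨ p₃.1 = d.z • p₁.1 ∨ p₃.1 = p₂.1 ∨ p₃.1 = d.z • p₂.1 := by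
        intro p₁ p₂ p₃ h₁ h₂
        by_contra hcon
        push Not at hcon
        obtain ⟨c1, c2, c3, c4⟩ := hcon
        let p₁' : {q // ¬ P q} := ⟨d.z • p₁.1, hzq _ p₁.2⟩
        let p₂' : {q // ¬ P q} := ⟨d.z • p₂.1, hzq _ p₂.2⟩
        have hzz : ∀ p : G ⧸ d.H, d.z • d.z • p = p := fun p => by
          rw [← mul_smul, d.z_sq, one_smul]
        have n1 : p₁ ≠ p₁' := fun h => p₁.2 (congrArg Subtype.val h).symm
        have n2 : p₁ ≠ p₂ := fun h => h₁ (congrArg Subtype.val h).symm
        have n3 : p₁ ≠ p₂' := fun h => h₂ (by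
          rw [show (p₁ : G ⧸ d.H) = d.z • p₂.1 from congrArg Subtype.val h, hzz])
        have n4 : p₁' ≠ p₂ := fun h => h₂ (congrArg Subtype.val h).symm
        have n5 : p₁' ≠ p₂' := fun h => h₁ (smul_left_cancel _ (congrArg Subtype.val h)).symm
        have n6 : p₂ ≠ p₂' := fun h => p₂.2 (congrArg Subtype.val h).symm
        have n7 : p₁ ≠ p₃ := fun h => c1 (congrArg Subtype.val h).symm
        have n8 : p₁' ≠ p₃ := fun h => c2 (congrArg Subtype.val h).symm
        have n9 : p₂ ≠ p₃ := fun h => c3 (congrArg Subtype.val h).symm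
        have n10 : p₂' ≠ p₃ := fun h => c4 (congrArg Subtype.val h).symm
        have h5 : ({p₁, p₁', p₂, p₂', p₃} : Finset {q // ¬ P q}).card = 5 := by
          rw [Finset.card_insert_of_notMem (by simp [n1, n2, n3, n7]),
            Finset.card_insert_of_notMem (by simp [n4, n5, n8]),
            Finset.card_insert_of_notMem (by simp [n6, n9]),
            Finset.card_insert_of_notMem (by simp [n10]), Finset.card_singleton]
        have := Finset.card_le_univ ({p₁, p₁', p₂, p₂', p₃} : Finset {q // ¬ P q})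
        omega
      have hez' : ∀ p : G ⧸ d.H, e • d.z • p = d.z • e • p := fun p => by
        rw [← mul_smul, hez.eq, mul_smul]
      have hzz : ∀ p : G ⧸ d.H, d.z • d.z • p = p := fun p => by rw [← mul_smul, d.z_sq, one_smul]
      have htwo : ∀ p : G ⧸ d.H, (p = q ∨ p = d.z • q) →
          (e • e • p = q ∨ e • e • p = d.z • q) → e • e • e • e • q = q := by
        intro p hp hpp
        rcases hp with rfl | rfl
        · rcases hpp with h | h <;> rw [h]
          · exact h
          · rw [hez', hez', h, hzz]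
        · rcases hpp with h | h
          · rw [hez', hez'] at h
            have h' : e • e • q = d.z • q := by rw [← hzz (e • e • q), h]
            rw [h', hez', hez', h', hzz]
          · rw [hez', hez'] at h
            have h' : e • e • q = q := smul_left_cancel _ h
            rw [h', h']
      rw [show e ^ 4 = e * (e * (e * e)) by simp [pow_succ, mul_assoc], mul_smul, mul_smul, mul_smul]
      refine htwo q (Or.inl rfl) ?_
      by_cases h1 : e • q = q ∨ e • q = d.z • q
      · rcases h1 with h | h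
        · exact Or.inl (by rw [h, h])
        · exact Or.inl (by rw [h, hez', h, hzz])
      push Not at h1
      rcases hpair ⟨q, hq⟩ ⟨e • q, hstab _ hq⟩ ⟨e • e • q, hstab _ (hstab _ hq)⟩ h1.1 h1.2 with
        h | h | h | h
      · exact Or.inl h
      · exact Or.inr h
      · exact absurd (smul_left_cancel _ h) h1.1
      · refine absurd ?_ h1.2
        have h' : e • e • q = e • d.z • q := by rw [hez']; exact h
        exact smul_left_cancel _ h'
    have h4 := hker _ hfour
    obtain ⟨l, hl⟩ := (d.mem_core.1 (d.mem_swap_A.1 he).1).1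
    have hd := orderOf_dvd_of_pow_eq_one h4
    have hco : Nat.Coprime (orderOf e) (2 ^ 2) :=
      (Nat.coprime_two_right.2 ⟨l, hl⟩).pow_right 2
    exact orderOf_eq_one_iff.1 (Nat.dvd_one.1 (hco.gcd_eq_one ▸ Nat.dvd_gcd dvd_rfl (by norm_num; exact hd)))
  · refine ⟨v, hv1, hv2, hv3, hvB, fun y hy => ?_⟩
    have hyz := (d.mem_core.1 hy).2
    have hy2 : (y * y) • q1 = q1 := by
      subst ha1
      obtain ⟨s, t, hst, hset⟩ := Set.ncard_eq_two.1 (by rw [← Nat.card_coe_set_eq]; omega :
        (orbit C q1).ncard = 2)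
      let yC : C := ⟨y, mem_centralizer_singleton_iff.2 hyz.eq⟩
      have hm : ∀ p ∈ orbit C q1, (p = s ∨ p = t) := fun p hp => by rw [hset] at hp; simpa using hp
      have hyp : ∀ p ∈ orbit C q1, y • p ∈ orbit C q1 := fun p hp =>
        (MulAction.smul_orbit_subset yC q1) ⟨p, hp, rfl⟩
      have h1 := hm q1 (mem_orbit_self q1)
      have h2 := hm _ (hyp q1 (mem_orbit_self q1))
      have h3 := hm _ (hyp _ (hyp q1 (mem_orbit_self q1)))
      rw [mul_smul]
      by_contra hne2
      have hne1 : y • q1 ≠ q1 := fun h => hne2 (by rw [h, h])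
      have hne3 : y • y • q1 ≠ y • q1 := fun h => hne1 (smul_left_cancel _ h)
      rcases h1 with h1 | h1 <;> rcases h2 with h2 | h2 <;> rcases h3 with h3 | h3
      all_goals
        first
          | exact hne1 (h2.trans h1.symm)
          | exact hne2 (h3.trans h1.symm)
          | exact hne3 (h3.trans h2.symm)
    have hyH : v * y * v⁻¹ ∈ d.H := by
      obtain ⟨l, hl⟩ := (d.mem_core.1 hy).1
      have e : y = (y * y) ^ (l + 1) := by
        rw [← pow_two, ← pow_mul, show 2 * (l + 1) = 2 * l + 1 + 1 by omega, ← hl, pow_succ,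
          pow_orderOf_eq_one, one_mul]
      have h1 : y • q1 = q1 := by
        rw [e]
        exact (stabilizer G q1).pow_mem (mem_stabilizer_iff.2 hy2) _
      have := (hfixiff v⁻¹ y).1 h1
      rwa [inv_inv] at this
    exact d.odd_mem_H hyH (by rw [Invol.orderOf_conj_eq]; exact (d.mem_core.1 hy).1)

end Cfsg.Lib.SmallCent.Setup
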