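import Cfsg.Agent.Lib.SmallCent.Core
import Cfsg.Agent.Lib.Small.PSLTwoRecog

/-!
Counting in the centralizer `X` of `A` and the permutation representation on the cosets of
`X⟨w⟩`.
-/

set_option autoImplicit false

namespace Cfsg.Lib.SmallCent.Setup

open Subgroup

universe u

variable {G : Type u} [Group G] [Finite G] (d : Setup G)

/-- The involutions of `X`. -/
def J : Set G := {j | j ∈ d.X ∧ orderOf j = 2}

/-- The centralizer of `z` in `X`. -/
def CX : Subgroup G := d.X ⊓ centralizer ({d.z} : Set G)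

theorem conj_w_X {x : G} (hx : x ∈ d.X) : d.w * x * d.w⁻¹ ∈ d.X ∧ d.w⁻¹ * x * d.w ∈ d.X := by
  have hA : ∀ a ∈ d.A, a⁻¹ ∈ d.A := fun a ha => inv_mem ha
  have h : ∀ a ∈ d.A, d.w * a * d.w⁻¹ = a⁻¹ := fun a ha => d.core_inverted (d.mem_A.1 ha).1
  refine ⟨d.mem_X.2 fun a ha => ?_, d.mem_X.2 fun a ha => ?_⟩
  · have h1 := (d.mem_X.1 hx a⁻¹ (hA a ha)).map (MulAut.conj d.w).toMonoidHom
    change Commute (d.w * a⁻¹ * d.w⁻¹) _ at h1
    rw [← conj_inv, h a ha, inv_inv] at h1
    exact h1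
  · have h1 := (d.mem_X.1 hx a⁻¹ (hA a ha)).map (MulAut.conj d.w⁻¹).toMonoidHom
    change Commute (d.w⁻¹ * a⁻¹ * d.w⁻¹⁻¹) (d.w⁻¹ * x * d.w⁻¹⁻¹) at h1
    rw [inv_inv] at h1
    have e : d.w⁻¹ * a⁻¹ * d.w = a := by rw [← h a ha]; group
    rwa [e] at h1

theorem w_sq_mem_X : d.w * d.w ∈ d.X := by
  rw [← pow_two, ← z]
  exact d.mem_X.2 fun a ha => (d.mem_core.1 (d.mem_A.1 ha).1).2

/-- The extension of `X` by `w`. -/
def H : Subgroup G where
  carrier := {g | g ∈ d.X ∨ g * d.w ∈ d.X}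
  one_mem' := Or.inl (one_mem _)
  mul_mem' {g h} hg hh := by
    rcases hg with hg | hg <;> rcases hh with hh | hh
    · exact Or.inl (mul_mem hg hh)
    · exact Or.inr (by rw [mul_assoc]; exact mul_mem hg hh)
    · refine Or.inr ?_
      have := mul_mem hg (d.conj_w_X hh).2
      rwa [show g * d.w * (d.w⁻¹ * h * d.w) = g * h * d.w by group] at this
    · refine Or.inl ?_
      have := mul_mem (mul_mem hg (d.conj_w_X hh).2) (inv_mem d.w_sq_mem_X)
      rwa [show g * d.w * (d.w⁻¹ * (h * d.w) * d.w) * (d.w * d.w)⁻¹ = g * h by group] at this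
  inv_mem' {g} hg := by
    rcases hg with hg | hg
    · exact Or.inl (inv_mem hg)
    · refine Or.inr ?_
      have := mul_mem (d.conj_w_X (inv_mem hg)).1 d.w_sq_mem_X
      rwa [show d.w * (g * d.w)⁻¹ * d.w⁻¹ * (d.w * d.w) = g⁻¹ * d.w by group] at this

theorem mem_H {g : G} : g ∈ d.H ↔ g ∈ d.X ∨ g * d.w ∈ d.X := Iff.rfl

theorem X_le_H : d.X ≤ d.H := fun _ h => Or.inl h

theorem w_mem_H : d.w ∈ d.H := Or.inr d.w_sq_mem_X

theorem odd_mem_H {g : G} (hg : g ∈ d.H) (ho : Odd (orderOf g)) : g ∈ d.X := by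
  have h2 : g * g ∈ d.X := by
    rcases hg with h | h
    · exact mul_mem h h
    · have := mul_mem (mul_mem h (d.conj_w_X h).2) (inv_mem d.w_sq_mem_X)
      rwa [show g * d.w * (d.w⁻¹ * (g * d.w) * d.w) * (d.w * d.w)⁻¹ = g * g by group] at this
  obtain ⟨k, hk⟩ := ho
  have e : g = (g * g) ^ (k + 1) := by
    rw [← pow_two, ← pow_mul, show 2 * (k + 1) = 2 * k + 1 + 1 by omega, ← hk, pow_succ,
      pow_orderOf_eq_one, one_mul]
  rw [e]
  exact pow_mem h2 _

variable (hA : d.A ≠ ⊥)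
include hA

theorem mem_centralizer_cases {c : G} (hc : Commute c d.z) : c ∈ d.X ∨ c * d.w ∈ d.X := by
  obtain ⟨hz, hτ', -, hcore, -⟩ := d.X_basic hA
  obtain ⟨y, hy, s, hs, rfl⟩ := d.core_spec.2.2.2.2 c hc
  have hyH : y ∈ d.H := d.X_le_H (hcore y hy)
  have hsH : s ∈ d.H := by
    have hz' := d.X_le_H hz
    have ht' := d.X_le_H hτ'
    have hw' := d.w_mem_H
    rcases d.mem_S_cases hs with (e | e | e | e) | e | e | e | e <;> rw [e]
    · exact one_mem _
    · exact hz'
    · exact ht'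
    · exact mul_mem hz' ht'
    · exact hw'
    · exact inv_mem hw'
    · exact mul_mem hw' ht'
    · exact mul_mem hz' (mul_mem hw' ht')
  exact mul_mem hyH hsH

theorem mem_H_two {g : G} : ¬ (g ∈ d.X ∧ g * d.w ∈ d.X) := fun ⟨h1, h2⟩ =>
  (d.X_basic hA).2.2.1 (by simpa using mul_mem (inv_mem h1) h2)

theorem card_CX : Nat.card d.CX = 4 * Nat.card d.core := by
  classical
  have hcz : ∀ c, c ∈ d.CX ↔ c ∈ d.X ∧ Commute c d.z := fun c => by
    rw [CX, mem_inf, mem_centralizer_singleton_iff]; rfl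
  have e : Nat.card (centralizer ({d.z} : Set G)) = Nat.card (d.CX × Bool) := by
    refine (Nat.card_congr (Equiv.ofBijective (fun p => (⟨if p.2 then (p.1 : G) * d.w⁻¹ else p.1, ?_⟩ :
      centralizer ({d.z} : Set G))) ⟨?_, ?_⟩)).symm
    · rw [mem_centralizer_singleton_iff]
      have h := ((hcz p.1).1 p.1.2).2
      split_ifs
      · exact (h.mul_left d.w_z.inv_left).eq
      · exact h.eq
    · rintro ⟨p, bp⟩ ⟨q, bq⟩ h
      have h' := congrArg Subtype.val h
      have hp := ((hcz p).1 p.2).1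
      have hq := ((hcz q).1 q.2).1
      rcases bp <;> rcases bq <;> simp only [Bool.false_eq_true, if_false, if_true] at h'
      · exact Prod.ext (Subtype.ext h') rfl
      · refine absurd ⟨hp, ?_⟩ (d.mem_H_two hA (g := (p : G)))
        rw [h', inv_mul_cancel_right]; exact hq
      · refine absurd ⟨hq, ?_⟩ (d.mem_H_two hA (g := (q : G)))
        rw [← h', inv_mul_cancel_right]; exact hp
      · exact Prod.ext (Subtype.ext (mul_right_cancel h')) rfl
    · rintro ⟨c, hc⟩
      have hc' : Commute c d.z := mem_centralizer_singleton_iff.1 hc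
      rcases d.mem_centralizer_cases hA hc' with h | h
      · exact ⟨(⟨c, (hcz c).2 ⟨h, hc'⟩⟩, false), rfl⟩
      · exact ⟨(⟨c * d.w, (hcz _).2 ⟨h, hc'.mul_left d.w_z⟩⟩, true), Subtype.ext (by simp)⟩
  rw [d.core_spec.2.2.2.1, Nat.card_prod, Nat.card_eq_fintype_card (α := Bool), Fintype.card_bool] at e
  omega

theorem card_H : Nat.card d.H = 2 * Nat.card d.X := by
  classical
  rw [show 2 * Nat.card d.X = Nat.card (d.X × Bool) by
    rw [Nat.card_prod, Nat.card_eq_fintype_card (α := Bool), Fintype.card_bool, mul_comm]]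
  refine (Nat.card_congr (Equiv.ofBijective (fun p => (⟨if p.2 then (p.1 : G) * d.w⁻¹ else p.1, ?_⟩ :
    d.H)) ⟨?_, ?_⟩)).symm
  · split_ifs
    · exact mul_mem (d.X_le_H p.1.2) (inv_mem d.w_mem_H)
    · exact d.X_le_H p.1.2
  · rintro ⟨p, bp⟩ ⟨q, bq⟩ h
    have h' := congrArg Subtype.val h
    rcases bp <;> rcases bq <;> simp only [Bool.false_eq_true, if_false, if_true] at h'
    · exact Prod.ext (Subtype.ext h') rfl
    · refine absurd ⟨p.2, ?_⟩ (d.mem_H_two hA (g := (p : G)))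
      rw [h', inv_mul_cancel_right]; exact q.2
    · refine absurd ⟨q.2, ?_⟩ (d.mem_H_two hA (g := (q : G)))
      rw [← h', inv_mul_cancel_right]; exact p.2
    · exact Prod.ext (Subtype.ext (mul_right_cancel h')) rfl
  · rintro ⟨g, hg⟩
    rcases hg with h | h
    · exact ⟨(⟨g, h⟩, false), rfl⟩
    · exact ⟨(⟨g * d.w, h⟩, true), Subtype.ext (by simp)⟩

variable [IsSimpleGroup G] (hG : ¬ IsCyclic G)
include hG

theorem H_ne_top : d.H ≠ ⊤ := by
  intro h
  obtain ⟨hz, -, hw', -, -⟩ := d.X_basic hA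
  have hn : d.X.Normal := ⟨fun x hx g => by
    rcases (h ▸ mem_top g : g ∈ d.H) with hg | hg
    · exact mul_mem (mul_mem hg hx) (inv_mem hg)
    · have := mul_mem (mul_mem hg (d.conj_w_X hx).2) (inv_mem hg)
      rwa [show g * d.w * (d.w⁻¹ * x * d.w) * (g * d.w)⁻¹ = g * x * g⁻¹ by group] at this⟩
  rcases hn.eq_bot_or_eq_top with h' | h'
  · rw [h', mem_bot] at hz
    exact Invol.ne_one d.z_order hz
  · exact hw' (h' ▸ mem_top _)

theorem card_X : Nat.card d.X = Nat.card d.J * (4 * Nat.card d.core) := by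
  rw [← d.card_CX hA, ← Nat.card_prod]
  choose sec hsec hsec' using fun j : d.J => d.X_oneClass hG hA j.2.1 j.2.2
  symm
  refine Nat.card_congr (Equiv.ofBijective
    (fun p => (⟨sec p.1 * p.2, mul_mem (hsec p.1) (mem_inf.1 p.2.2).1⟩ : d.X)) ⟨?_, ?_⟩)
  · rintro ⟨j, c⟩ ⟨j', c'⟩ h
    have h' : sec j * c = sec j' * c' := congrArg Subtype.val h
    have key : ∀ (i : d.J) (e : d.CX), sec i * e * d.z * (sec i * e)⁻¹ = i := fun i e => by
      have hc : Commute (e : G) d.z := mem_centralizer_singleton_iff.1 (mem_inf.1 e.2).2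
      rw [show sec i * (e : G) * d.z * (sec i * e)⁻¹ = sec i * ((e : G) * d.z * (e : G)⁻¹) * (sec i)⁻¹
        by group, hc.eq, mul_inv_cancel_right, hsec' i]
    obtain rfl : j = j' := Subtype.ext (by rw [← key j c, ← key j' c', h'])
    exact Prod.ext rfl (Subtype.ext (mul_left_cancel h'))
  · rintro ⟨x, hx⟩
    have hj : x * d.z * x⁻¹ ∈ d.J := ⟨mul_mem (mul_mem hx (d.X_basic hA).1) (inv_mem hx),
      by rw [Invol.orderOf_conj_eq, d.z_order]⟩
    refine ⟨(⟨_, hj⟩, ⟨(sec ⟨_, hj⟩)⁻¹ * x, mem_inf.2 ⟨mul_mem (inv_mem (hsec _)) hx, ?_⟩⟩), ?_⟩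
    · rw [mem_centralizer_singleton_iff]
      have e := hsec' ⟨_, hj⟩
      simp only at e
      calc (sec ⟨_, hj⟩)⁻¹ * x * d.z = (sec ⟨_, hj⟩)⁻¹ * (x * d.z * x⁻¹) * x := by group
        _ = _ := by nth_rw 2 [← e]; group
    · exact Subtype.ext (by simp)

/-- The order of `G` in terms of the index of `H`. -/
theorem card_eq : Nat.card G = d.H.index * Nat.card d.J * (8 * Nat.card d.core) := by
  rw [← d.H.index_mul_card, d.card_H hA, d.card_X hA hG]
  ring

/-- Involutions `j` of `X` such that `z * j` has an involution `u ≠ z` commuting with `z` among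
its powers, and all others. -/
theorem J_lower (T : Set G) (hT : T ⊆ d.J)
    (hTu : ∀ j ∈ T, ∀ u ∈ zpowers (d.z * j), orderOf u = 2 → Commute u d.z → u = d.z) :
    2 * Nat.card d.swap.A ^ 2 + Nat.card T ≤ Nat.card d.J := by
  classical
  obtain ⟨hz, hτ', -, hcore, -⟩ := d.X_basic hA
  set B := d.swap.A
  have hBc : ∀ b ∈ B, b ∈ d.core ∧ d.τ * b * d.τ⁻¹ = b⁻¹ := fun b hb => d.mem_swap_A.1 hb
  let u : Bool × B → G := fun p => (p.2 : G) * (if p.1 then d.τ else d.z * d.τ)
  have hsS : ∀ ε : Bool, (if ε then d.τ else d.z * d.τ) ∈ (d.S : Subgroup G) := fun ε => by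
    rcases ε <;> simp [d.hτS, mul_mem d.zS d.hτS]
  have hinv : ∀ (b : B) (ε : Bool), (if ε then d.τ else d.z * d.τ) * (b : G) *
      (if ε then d.τ else d.z * d.τ) = (b : G)⁻¹ := by
    intro b ε
    have h := (hBc b b.2).2
    rw [d.τ_inv] at h
    rcases ε <;> simp only [Bool.false_eq_true, if_false, if_true]
    · rw [show d.z * d.τ * (b : G) * (d.z * d.τ) = d.z * (d.τ * b * (d.z * d.τ)) by group,
        ← d.τ_z.eq, show d.τ * (b : G) * (d.τ * d.z) = (d.τ * b * d.τ) * d.z by group, h,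
        ← mul_assoc, (d.mem_core.1 (inv_mem (hBc b b.2).1)).2.symm.eq, mul_assoc, d.z_sq, mul_one]
    · exact h
  have hu : ∀ p, u p ∈ d.X ∧ orderOf (u p) = 2 ∧ Commute (u p) d.z ∧ u p ≠ d.z := by
    rintro ⟨ε, b⟩
    have hb := (hBc b b.2).1
    have hsX : (if ε then d.τ else d.z * d.τ) ∈ d.X := by
      rcases ε <;> simp [hτ', mul_mem hz hτ']
    have hsz : Commute (if ε then d.τ else d.z * d.τ) d.z := by
      rcases ε <;> simp only [Bool.false_eq_true, if_false, if_true]
      · exact (Commute.refl d.z).mul_left d.τ_z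
      · exact d.τ_z
    have hne1 : (if ε then d.τ else d.z * d.τ) ≠ 1 := by
      rcases ε <;> simp only [Bool.false_eq_true, if_false, if_true]
      · exact fun h => d.z_ne_τ (by rw [← d.τ_inv]; exact mul_eq_one_iff_eq_inv.1 h)
      · exact Invol.ne_one d.hτ
    have hnez : (if ε then d.τ else d.z * d.τ) ≠ d.z := by
      rcases ε <;> simp only [Bool.false_eq_true, if_false, if_true]
      · exact fun h => Invol.ne_one d.hτ (mul_eq_left.1 h)
      · exact d.z_ne_τ.symm
    refine ⟨mul_mem (hcore _ hb) hsX, Invol.orderOf_eq_two_of (fun h => ?_) ?_,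
      (d.mem_core.1 hb).2.mul_left hsz, fun h => ?_⟩
    · obtain ⟨-, h2⟩ := d.core_mul_S hb (one_mem _) (hsS ε) (one_mem _) (h.trans (one_mul 1).symm)
      exact hne1 h2
    · calc (b : G) * _ * ((b : G) * _) = (b : G) * ((if ε then d.τ else d.z * d.τ) * b *
            (if ε then d.τ else d.z * d.τ)) := by group
        _ = 1 := by rw [hinv, mul_inv_cancel]
    · obtain ⟨-, h2⟩ := d.core_mul_S hb (one_mem _) (hsS ε) d.zS (h.trans (one_mul _).symm)
      exact hnez h2
  have uinj : Function.Injective u := by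
    rintro ⟨ε, b⟩ ⟨ε', b'⟩ h
    obtain ⟨h1, h2⟩ := d.core_mul_S (hBc b b.2).1 (hBc b' b'.2).1 (hsS ε) (hsS ε') h
    refine Prod.ext ?_ (Subtype.ext h1)
    rcases ε <;> rcases ε' <;> simp only [Bool.false_eq_true, if_false, if_true] at h2
    · rfl
    · exact absurd (mul_eq_right.1 h2) (Invol.ne_one d.z_order)
    · exact absurd (mul_eq_right.1 h2.symm) (Invol.ne_one d.z_order)
    · rfl
  choose x hxX hx using fun p => d.X_oneClass hG hA (hu p).1 (hu p).2.1
  let y : (Bool × B) × B → G := fun q => x q.1 * q.2 * (x q.1)⁻¹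
  -- `z` inverts and `u` centralizes the conjugated subgroup
  have hyz : ∀ q, d.z * y q * d.z = (y q)⁻¹ ∧ Commute (y q) (u q.1) ∧ y q ∈ d.X ∧
      y q ^ Nat.card d.core = 1 := by
    rintro ⟨p, b⟩
    set t := (x p)⁻¹ * d.z * x p with ht
    have htc : Commute t d.z := by
      have h1 := ((hu p).2.2.1.symm).map (MulAut.conj (x p)⁻¹).toMonoidHom
      rw [← hx p] at h1
      simpa [ht, mul_assoc] using h1
    have ht2 : orderOf t = 2 := by
      have h1 := Invol.orderOf_conj_eq (x p)⁻¹ d.z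
      rw [inv_inv] at h1
      rw [ht, h1, d.z_order]
    have htz : t ≠ d.z := fun h => (hu p).2.2.2 (by rw [← hx p]; nth_rw 1 [← h]; rw [ht]; group)
    obtain ⟨b', hb', hcases⟩ := d.X_invol hA
      (mul_mem (mul_mem (inv_mem (hxX p)) hz) (hxX p)) ht2 htc htz
    have htb : t * b * t = (b : G)⁻¹ := by
      obtain ⟨ε, e⟩ : ∃ ε : Bool, t = b' * (if ε then d.τ else d.z * d.τ) := by
        rcases hcases with e | e
        · exact ⟨true, e⟩
        · exact ⟨false, e⟩
      have hbb' := d.core_comm (hBc b' hb').1 (hBc b b.2).1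
      have ht1 : t * t = 1 := Invol.inv_mul_self ht2
      calc t * b * t = b' * ((if ε then d.τ else d.z * d.τ) * b * (if ε then d.τ else d.z * d.τ)) *
          ((if ε then d.τ else d.z * d.τ)⁻¹ * b' * (if ε then d.τ else d.z * d.τ)) := by
            rw [e]; group
        _ = b' * (b : G)⁻¹ * ((if ε then d.τ else d.z * d.τ)⁻¹ * b' *
            (if ε then d.τ else d.z * d.τ)) := by rw [hinv]
        _ = (b : G)⁻¹ * (b' * ((if ε then d.τ else d.z * d.τ)⁻¹ * b' *
            (if ε then d.τ else d.z * d.τ))) := by rw [hbb'.inv_right.eq]; group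
        _ = _ := by
          have hs1 : (if ε then d.τ else d.z * d.τ) * (if ε then d.τ else d.z * d.τ) = 1 := by
            rcases ε <;> simp only [Bool.false_eq_true, if_false, if_true]
            · rw [d.τ_z.mul_mul_mul_comm, d.z_sq, d.τ_sq, one_mul]
            · exact d.τ_sq
          rw [inv_eq_of_mul_eq_one_right hs1, hinv ⟨b', hb'⟩, mul_inv_cancel, mul_one]
    refine ⟨?_, ?_, mul_mem (mul_mem (hxX p) (hcore _ (hBc b b.2).1)) (inv_mem (hxX p)), ?_⟩
    · calc d.z * (x p * b * (x p)⁻¹) * d.z = x p * (t * b * t) * (x p)⁻¹ := by rw [ht]; group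
        _ = _ := by rw [htb]; simp only [y]; group
    · have h1 := ((d.mem_core.1 (hBc b b.2).1).2).map (MulAut.conj (x p)).toMonoidHom
      change Commute _ (x p * d.z * (x p)⁻¹) at h1
      rwa [hx p] at h1
    · show (x p * b * (x p)⁻¹) ^ _ = 1
      rw [conj_pow, show (b : G) ^ Nat.card d.core = 1 from
        congrArg Subtype.val (pow_card_eq_one' (x := (⟨b, (hBc b b.2).1⟩ : d.core))), mul_one,
        mul_inv_cancel]
  let j : (Bool × B) × B → G := fun q => d.z * (u q.1 * y q)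
  have hzj : ∀ q, d.z * j q = u q.1 * y q := fun q => by simp [j, ← mul_assoc, d.z_sq]
  obtain ⟨c, hc⟩ := d.core_spec.2.1
  have hpow : ∀ q, (d.z * j q) ^ Nat.card d.core = u q.1 := fun q => by
    rw [hzj, (hyz q).2.1.symm.mul_pow, (hyz q).2.2.2, mul_one, hc, pow_succ, pow_mul, pow_two,
      Invol.inv_mul_self (hu q.1).2.1, one_pow, one_mul]
  have hjJ : ∀ q, j q ∈ d.J := by
    intro q
    refine ⟨mul_mem hz (mul_mem (hu q.1).1 (hyz q).2.2.1), Invol.orderOf_eq_two_of (fun h => ?_) ?_⟩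
    · have h1 := hpow q
      rw [show j q = d.z * (u q.1 * y q) from rfl] at h1
      rw [show d.z * (u q.1 * y q) = 1 from h, mul_one, hc, pow_succ, pow_mul, pow_two, d.z_sq,
        one_pow, one_mul] at h1
      exact (hu q.1).2.2.2 h1.symm
    · calc j q * j q = (d.z * u q.1) * (y q * d.z * u q.1) * y q := by simp only [j]; group
        _ = (u q.1 * d.z) * (y q * d.z) * (u q.1 * y q) := by rw [(hu q.1).2.2.1.eq]; group
        _ = u q.1 * (d.z * y q * d.z) * (y q * u q.1) := by rw [(hyz q).2.1.eq]; group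
        _ = u q.1 * u q.1 := by rw [(hyz q).1]; group
        _ = 1 := Invol.inv_mul_self (hu q.1).2.1
  have jinj : Function.Injective j := by
    rintro ⟨p, b⟩ ⟨p', b'⟩ h
    have hp : p = p' := uinj (by rw [← hpow (p, b), ← hpow (p', b'), h])
    subst hp
    have h2 : y (p, b) = y (p, b') := mul_left_cancel (mul_left_cancel h)
    exact Prod.ext rfl (Subtype.ext (mul_left_cancel (mul_right_cancel h2)))
  have hdisj : Disjoint (Set.range j) T := by
    rw [Set.disjoint_left]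
    rintro _ ⟨q, rfl⟩ hq
    exact (hu q.1).2.2.2 (hTu _ hq (u q.1) (hpow q ▸ pow_mem (mem_zpowers _) _) (hu q.1).2.1
      (hu q.1).2.2.1)
  have hfin : d.J.Finite := Set.toFinite _
  calc 2 * Nat.card B ^ 2 + Nat.card T
      = (Set.range j).ncard + T.ncard := by
        rw [Set.ncard_range_of_injective jinj, Nat.card_coe_set_eq, Nat.card_prod, Nat.card_prod,
          Nat.card_eq_fintype_card (α := Bool), Fintype.card_bool]
        ring
    _ = (Set.range j ∪ T).ncard := (Set.ncard_union_eq hdisj).symm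
    _ ≤ Nat.card d.J := by
      rw [Nat.card_coe_set_eq]
      refine Set.ncard_le_ncard ?_ hfin
      rintro g (⟨q, rfl⟩ | hg)
      · exact hjJ q
      · exact hT hg

theorem J_lower_one : 2 * Nat.card d.swap.A ^ 2 + 1 ≤ Nat.card d.J := by
  have h := d.J_lower hA hG {d.z} (by
    rintro _ rfl; exact ⟨(d.X_basic hA).1, d.z_order⟩) (by
    rintro _ rfl u hu hu2 -
    rw [d.z_sq, zpowers_one_eq_bot, mem_bot] at hu
    exact absurd hu (Invol.ne_one hu2))
  simpa using h

end Cfsg.Lib.SmallCent.Setup
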