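import Cfsg.Agent.Lib.SmallCent.Count

/-!
Additional involutions of `X` coming from a conjugate of `A`.
-/

set_option autoImplicit false

namespace Cfsg.Lib.SmallCent.Setup

open Subgroup

universe u

variable {G : Type u} [Group G] [Finite G] [IsSimpleGroup G] (d : Setup G)

theorem J_lower_extra (hG : ¬ IsCyclic G) (hA : d.A ≠ ⊥) (hB : d.swap.A ≠ ⊥) {v : G}
    (hv1 : v * d.z * v⁻¹ = d.w * d.τ) (hv3 : v * (d.z * (d.w * d.τ)) * v⁻¹ = d.z)
    (hvB : ∀ e ∈ d.swap.A, v * e * v⁻¹ = e) (hvX : ∀ y ∈ d.core, v * y * v⁻¹ ∈ d.X) :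
    2 * Nat.card d.swap.A ^ 2 + Nat.card d.A ^ 2 ≤ Nat.card d.J := by
  classical
  obtain ⟨hz, hτ', hw', hcoreX, -⟩ := d.X_basic hA
  set σ := d.w * d.τ with hσ
  have hσ2 : σ * σ = 1 := d.wτ_sq
  have hσi : σ⁻¹ = σ := inv_eq_of_mul_eq_one_right hσ2
  have hσz : Commute σ d.z := d.w_z.mul_left d.τ_z
  have hσA : ∀ a ∈ d.A, σ * a * σ⁻¹ = a⁻¹ := fun a ha => by
    rw [show σ * a * σ⁻¹ = d.w * (d.τ * a * d.τ⁻¹) * d.w⁻¹ by rw [hσ]; group,
      (d.mem_A.1 ha).2.symm.eq, mul_inv_cancel_right, d.core_inverted (d.mem_A.1 ha).1]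
  have hO : ∀ {g : G}, g ∈ d.X → (∀ e ∈ d.swap.A, Commute g e) → ∀ y ∈ d.core, Commute g y := by
    intro g hg hgB y hy
    obtain ⟨a, ha, b, hb, rfl⟩ := d.decomposition hy
    exact (d.mem_X.1 hg a ha).symm.mul_right (hgB b hb)
  -- the first conjugate of `A`
  let p : d.A → G := fun a => v * a * v⁻¹
  have hp : ∀ a, p a ∈ d.X ∧ (∀ y ∈ d.core, Commute (p a) y) ∧ Commute (p a) σ ∧
      d.z * p a * d.z = (p a)⁻¹ ∧ Odd (orderOf (p a)) := by
    intro a
    have hac := (d.mem_A.1 a.2).1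
    have hX : p a ∈ d.X := hvX _ hac
    refine ⟨hX, hO hX fun e he => ?_, ?_, ?_, by
      show Odd (orderOf (v * (a : G) * v⁻¹))
      rw [Invol.orderOf_conj_eq]; exact (d.mem_core.1 hac).1⟩
    · have h := (d.core_comm hac (d.mem_swap_A.1 he).1).map (MulAut.conj v).toMonoidHom
      change Commute (v * a * v⁻¹) (v * e * v⁻¹) at h
      rwa [hvB e he] at h
    · have h := (d.mem_core.1 hac).2.map (MulAut.conj v).toMonoidHom
      change Commute (v * a * v⁻¹) (v * d.z * v⁻¹) at h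
      rwa [hv1] at h
    · have e : (d.z * σ) * a * (d.z * σ)⁻¹ = (a : G)⁻¹ := by
        rw [show d.z * σ * a * (d.z * σ)⁻¹ = d.z * (σ * a * σ⁻¹) * d.z⁻¹ by group, hσA a a.2,
          (d.mem_core.1 hac).2.inv_left.symm.eq, mul_inv_cancel_right]
      calc d.z * p a * d.z
          = v * (d.z * σ) * v⁻¹ * p a * (v * (d.z * σ) * v⁻¹)⁻¹ := by rw [hv3, d.z_inv]
        _ = v * (d.z * σ * a * (d.z * σ)⁻¹) * v⁻¹ := by simp only [p]; group
        _ = _ := by rw [e]; simp only [p]; group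
  -- the second one
  let q : d.A → G := fun a => d.w * p a * d.w⁻¹
  have hq : ∀ a, q a ∈ d.X ∧ (∀ y ∈ d.core, Commute (q a) y) ∧ σ * q a * σ = (q a)⁻¹ ∧
      d.z * q a * d.z = (q a)⁻¹ ∧ Odd (orderOf (q a)) := by
    intro a
    obtain ⟨h1, h2, h3, h4, h5⟩ := hp a
    have hzq : d.z * q a * d.z = (q a)⁻¹ := by
      calc d.z * q a * d.z = (d.z * d.w) * p a * (d.w⁻¹ * d.z) := by simp only [q]; group
        _ = d.w * (d.z * p a * d.z) * d.w⁻¹ := by
          rw [← d.w_z.eq, d.w_z.inv_left.eq]; group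
        _ = _ := by rw [h4]; simp only [q]; group
    refine ⟨(d.conj_w_X h1).1, fun y hy => ?_, ?_, hzq, by
      show Odd (orderOf (d.w * p a * d.w⁻¹))
      rw [Invol.orderOf_conj_eq]; exact h5⟩
    · have h := (h2 y⁻¹ (inv_mem hy)).map (MulAut.conj d.w).toMonoidHom
      change Commute (d.w * p a * d.w⁻¹) (d.w * y⁻¹ * d.w⁻¹) at h
      rwa [d.core_inverted (inv_mem hy), inv_inv] at h
    · have e : d.w * σ * d.w⁻¹ = d.z * σ := by
        rw [hσ, show d.w * (d.w * d.τ) * d.w⁻¹ = d.w * (d.w * d.τ * d.w⁻¹) by group, d.conj_w_τ,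
          ← mul_assoc, d.w_z.eq, mul_assoc]
      have h := h3.map (MulAut.conj d.w).toMonoidHom
      change Commute (q a) (d.w * σ * d.w⁻¹) at h
      rw [e] at h
      calc σ * q a * σ = d.z * ((d.z * σ) * q a) * σ := by
            rw [← mul_assoc d.z (d.z * σ), ← mul_assoc d.z d.z, d.z_sq, one_mul]
        _ = d.z * q a * d.z * (σ * σ) := by rw [← h.eq]; group
        _ = _ := by rw [hσ2, mul_one, hzq]
  let f : d.A × d.A → G := fun x => p x.1 * q x.2 * d.z * (p x.1 * q x.2)⁻¹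
  have hfJ : ∀ x, f x ∈ d.J := fun x =>
    ⟨mul_mem (mul_mem (mul_mem (hp x.1).1 (hq x.2).1) hz) (inv_mem (mul_mem (hp x.1).1 (hq x.2).1)),
      by rw [Invol.orderOf_conj_eq, d.z_order]⟩
  have hfO : ∀ x y, y ∈ d.core → Commute (f x) y := fun x y hy =>
    ((((hp x.1).2.1 y hy).mul_left ((hq x.2).2.1 y hy)).mul_left (d.mem_core.1 hy).2.symm).mul_left
      (((hp x.1).2.1 y hy).mul_left ((hq x.2).2.1 y hy)).inv_left
  have hodd : ∀ {g : G}, Odd (orderOf g) → g * g = 1 → g = 1 := by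
    intro g hg h
    obtain ⟨k, hk⟩ := hg
    have h2 := pow_orderOf_eq_one g
    rwa [hk, pow_succ, pow_mul, pow_two, h, one_pow, one_mul] at h2
  obtain ⟨⟨e₀, he₀⟩, he₁⟩ := ne_bot_iff_exists_ne_one.1 hB
  have hT : ∀ j ∈ Set.range f, ∀ u ∈ zpowers (d.z * j), orderOf u = 2 → Commute u d.z → u = d.z := by
    rintro _ ⟨x, rfl⟩ u hu hu2 huz
    by_contra hne
    have huX : u ∈ d.X := (zpowers_le.2 (mul_mem hz (hfJ x).1)) hu
    obtain ⟨b, hb, hub⟩ := d.X_invol hA huX hu2 huz hne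
    obtain ⟨he₀c, he₀τ⟩ := d.mem_swap_A.1 he₀
    have hc : Commute u e₀ := by
      obtain ⟨i, rfl⟩ := hu
      exact ((d.mem_core.1 he₀c).2.symm.mul_left (hfO x _ he₀c)).zpow_left i
    have hbe := d.core_comm (d.mem_swap_A.1 hb).1 he₀c
    have hτe : Commute d.τ e₀ := by
      rcases hub with rfl | rfl
      · have := hbe.inv_left.mul_left hc
        rwa [inv_mul_cancel_left] at this
      · have := (d.mem_core.1 he₀c).2.symm.mul_left (hbe.inv_left.mul_left hc)
        rwa [inv_mul_cancel_left, ← mul_assoc, d.z_sq, one_mul] at this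
    refine he₁ (Subtype.ext (hodd (d.mem_core.1 he₀c).1 ?_))
    rw [hτe.eq, mul_inv_cancel_right] at he₀τ
    exact mul_eq_one_iff_eq_inv.2 he₀τ
  have hinj : Function.Injective f := by
    rintro ⟨a1, a2⟩ ⟨b1, b2⟩ h
    have hrz : Commute ((p a1 * q a2)⁻¹ * (p b1 * q b2)) d.z := by
      refine mul_inv_eq_iff_eq_mul.1 ?_
      calc (p a1 * q a2)⁻¹ * (p b1 * q b2) * d.z * ((p a1 * q a2)⁻¹ * (p b1 * q b2))⁻¹
          = (p a1 * q a2)⁻¹ * (p b1 * q b2 * d.z * (p b1 * q b2)⁻¹) * (p a1 * q a2) := by group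
        _ = _ := by rw [show p b1 * q b2 * d.z * (p b1 * q b2)⁻¹ = p a1 * q a2 * d.z * (p a1 * q a2)⁻¹
              from h.symm]; group
    set r := (p a1 * q a2)⁻¹ * (p b1 * q b2) with hr
    have hrX : r ∈ d.X := mul_mem (inv_mem (mul_mem (hp a1).1 (hq a2).1)) (mul_mem (hp b1).1 (hq b2).1)
    obtain ⟨y, hy, s, hs, hys⟩ := (d.X_basic hA).2.2.2.2 r hrX hrz
    have hre : Commute r e₀ := by
      have he₀c := (d.mem_swap_A.1 he₀).1
      exact (((hp a1).2.1 _ he₀c).mul_left ((hq a2).2.1 _ he₀c)).inv_left.mul_left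
        (((hp b1).2.1 _ he₀c).mul_left ((hq b2).2.1 _ he₀c))
    obtain ⟨he₀c, he₀τ⟩ := d.mem_swap_A.1 he₀
    have hse : Commute s e₀ := by
      have := (d.core_comm hy he₀c).inv_left.mul_left (hys ▸ hre)
      rwa [inv_mul_cancel_left] at this
    have hs1 : s = 1 ∨ s = d.z := by
      have hτe : Commute d.τ e₀ → False := fun hτe => he₁ (Subtype.ext (hodd (d.mem_core.1 he₀c).1 (by
        rw [hτe.eq, mul_inv_cancel_right] at he₀τ
        exact mul_eq_one_iff_eq_inv.2 he₀τ)))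
      rcases hs with e | e | e | e
      · exact Or.inl e
      · exact Or.inr e
      · exact (hτe (e ▸ hse)).elim
      · refine (hτe ?_).elim
        have := (d.mem_core.1 he₀c).2.symm.mul_left (e ▸ hse)
        rwa [← mul_assoc, d.z_sq, one_mul] at this
    -- compare the images under `σ`
    have hcancel : (p a1)⁻¹ * p b1 = q a2 * (y * s) * (q b2)⁻¹ := by
      rw [← hys, hr]; group
    obtain ⟨a, ha, b, hb, hab⟩ := d.decomposition hy
    obtain ⟨hac, -⟩ := d.mem_A.1 ha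
    obtain ⟨hbc, hbτ⟩ := d.mem_swap_A.1 hb
    have hσb : Commute σ b := ((d.swap.mem_A.1 hb).2).symm
    have hσy : σ * y * σ = a⁻¹ * b := by
      calc σ * y * σ = (σ * a * σ⁻¹) * (σ * b * σ⁻¹) := by rw [hab]; nth_rw 2 [← hσi]; group
        _ = _ := by rw [hσA a ha, hσb.eq, mul_inv_cancel_right]
    have hP : Commute ((p a1)⁻¹ * p b1) σ := ((hp a1).2.2.1.inv_left).mul_left (hp b1).2.2.1
    obtain ⟨r2, hr2odd, hr2z, hr2σ, hr2y, hPeq⟩ : ∃ r2, Odd (orderOf r2) ∧
        d.z * r2 * d.z = r2⁻¹ ∧ σ * r2 * σ = r2⁻¹ ∧ (∀ y' ∈ d.core, Commute r2 y') ∧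
        (p a1)⁻¹ * p b1 = y * r2 * s := by
      have hqq : ∀ {c e : d.A}, Odd (orderOf (q c * q e)) ∧ Commute (q c) (q e) := fun {c e} => by
        have hce : Commute (q c) (q e) := by
          have h1 := ((d.core_comm (d.mem_A.1 c.2).1 (d.mem_A.1 e.2).1).map
            (MulAut.conj v).toMonoidHom).map (MulAut.conj d.w).toMonoidHom
          exact h1
        exact ⟨Odd.of_dvd_nat ((hq c).2.2.2.2.mul (hq e).2.2.2.2)
          (hce.orderOf_mul_dvd_mul_orderOf), hce⟩
      rcases hs1 with e | e <;> subst e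
      · refine ⟨q a2 * (q b2)⁻¹, ?_, ?_, ?_, ?_, ?_⟩
        · have hc := (hqq (c := a2) (e := b2)).2.inv_right
          exact Odd.of_dvd_nat ((hq a2).2.2.2.2.mul ((orderOf_inv (q b2)).symm ▸ (hq b2).2.2.2.2))
            (hc.orderOf_mul_dvd_mul_orderOf)
        · calc d.z * (q a2 * (q b2)⁻¹) * d.z = (d.z * q a2 * d.z) * (d.z * q b2 * d.z)⁻¹ := by
                nth_rw 2 [← d.z_inv]
                group
            _ = _ := by
              rw [(hq a2).2.2.2.1, (hq b2).2.2.2.1, inv_inv, mul_inv_rev (q a2), inv_inv (q b2)]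
              exact ((hqq (c := a2) (e := b2)).2.inv_left).eq
        · calc σ * (q a2 * (q b2)⁻¹) * σ = (σ * q a2 * σ) * (σ * q b2 * σ)⁻¹ := by
                nth_rw 2 [← hσi]
                group
            _ = _ := by
              rw [(hq a2).2.2.1, (hq b2).2.2.1, inv_inv, mul_inv_rev (q a2), inv_inv (q b2)]
              exact ((hqq (c := a2) (e := b2)).2.inv_left).eq
        · exact fun y' hy' => ((hq a2).2.1 y' hy').mul_left ((hq b2).2.1 y' hy').inv_left
        · rw [hcancel, mul_one, mul_one, ← mul_assoc, ((hq a2).2.1 y hy).eq]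
      · refine ⟨q a2 * q b2, (hqq).1, ?_, ?_, ?_, ?_⟩
        · calc d.z * (q a2 * q b2) * d.z = (d.z * q a2 * d.z) * (d.z * q b2 * d.z) := by
                simp only [mul_assoc]
                rw [← mul_assoc d.z d.z, d.z_sq, one_mul]
            _ = _ := by rw [(hq a2).2.2.2.1, (hq b2).2.2.2.1, ← mul_inv_rev, (hqq).2.eq]
        · calc σ * (q a2 * q b2) * σ = (σ * q a2 * σ) * (σ * q b2 * σ) := by
                simp only [mul_assoc]
                rw [← mul_assoc σ σ, hσ2, one_mul]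
            _ = _ := by rw [(hq a2).2.2.1, (hq b2).2.2.1, ← mul_inv_rev, (hqq).2.eq]
        · exact fun y' hy' => ((hq a2).2.1 y' hy').mul_left ((hq b2).2.1 y' hy')
        · have e : d.z * (q b2)⁻¹ = q b2 * d.z := by
            rw [← (hq b2).2.2.2.1]
            simp only [← mul_assoc]
            rw [d.z_sq, one_mul]
          rw [hcancel, mul_assoc (q a2), mul_assoc y, e, ← mul_assoc, ((hq a2).2.1 y hy).eq]
          group
    have hsσ : σ * s * σ = s := by
      rcases hs1 with rfl | rfl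
      · rw [mul_one, hσ2]
      · rw [hσz.eq, mul_assoc, hσ2, mul_one]
    have hkey : y * r2 = a⁻¹ * b * r2⁻¹ := by
      have h1 : σ * ((p a1)⁻¹ * p b1) * σ = (p a1)⁻¹ * p b1 := by
        rw [← hP.eq, mul_assoc, hσ2, mul_one]
      rw [hPeq] at h1
      have h2 : σ * (y * r2 * s) * σ = (σ * y * σ) * (σ * r2 * σ) * (σ * s * σ) := by
        simp only [mul_assoc]
        rw [← mul_assoc σ σ, hσ2, one_mul, ← mul_assoc σ σ, hσ2, one_mul]
      rw [h2, hσy, hr2σ, hsσ] at h1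
      exact (mul_right_cancel h1).symm
    have hab' := d.core_comm hac hbc
    have hsq : r2 * a * (r2 * a) = 1 := by
      have ra := hr2y a hac
      have rb := hr2y b hbc
      calc r2 * a * (r2 * a) = r2 * (a * r2) * a := by group
        _ = r2 * r2 * (a * a) := by rw [← ra.eq]; group
        _ = (a * b)⁻¹ * (y * r2) * r2 * (a * a) := by rw [hab]; group
        _ = (a * b)⁻¹ * (a⁻¹ * b) * (a * a) := by rw [hkey]; group
        _ = b⁻¹ * a⁻¹ * (a⁻¹ * b) * (a * a) := by group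
        _ = 1 := by
          rw [show b⁻¹ * a⁻¹ * (a⁻¹ * b) * (a * a) = b⁻¹ * a⁻¹ * (a⁻¹ * (b * a)) * a by group,
            ← hab'.eq, inv_mul_cancel_left, show b⁻¹ * a⁻¹ * b * a = b⁻¹ * (a⁻¹ * b) * a by group,
            hab'.inv_left.eq]
          group
    have hra : r2 * a = 1 := hodd (Odd.of_dvd_nat (hr2odd.mul (d.mem_core.1 hac).1)
      (hr2y a hac).orderOf_mul_dvd_mul_orderOf) hsq
    have hr21 : r2 = 1 := by
      refine hodd hr2odd ?_
      have hcz : Commute r2 d.z := by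
        rw [eq_inv_of_mul_eq_one_left hra]
        exact (d.mem_core.1 hac).2.inv_left
      rw [hcz.symm.eq, mul_assoc, d.z_sq, mul_one] at hr2z
      exact mul_eq_one_iff_eq_inv.2 hr2z
    have ha1 : a = 1 := by rwa [hr21, one_mul] at hra
    rw [hr21, mul_one, hab, ha1, one_mul] at hPeq
    have hPzinv : d.z * ((p a1)⁻¹ * p b1) * d.z = p a1 * (p b1)⁻¹ := by
      calc d.z * ((p a1)⁻¹ * p b1) * d.z = (d.z * p a1 * d.z)⁻¹ * (d.z * p b1 * d.z) := by
            nth_rw 1 [← d.z_inv]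
            group
        _ = _ := by rw [(hp a1).2.2.2.1, (hp b1).2.2.2.1, inv_inv]
    have hpc : ∀ c e : d.A, Commute (p c) (p e) := fun c e =>
      (d.core_comm (d.mem_A.1 c.2).1 (d.mem_A.1 e.2).1).map (MulAut.conj v).toMonoidHom
    have hsz : Commute s d.z := by
      rcases hs1 with rfl | rfl
      · exact Commute.one_left _
      · exact Commute.refl _
    have hPc : Commute ((p a1)⁻¹ * p b1) d.z := by
      rw [hPeq]; exact (d.mem_core.1 hbc).2.mul_left hsz
    have hP1 : (p a1)⁻¹ * p b1 = 1 := by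
      refine hodd (Odd.of_dvd_nat (((orderOf_inv (p a1)).symm ▸ (hp a1).2.2.2.2).mul (hp b1).2.2.2.2)
        (hpc a1 b1).inv_left.orderOf_mul_dvd_mul_orderOf) ?_
      rw [hPc.symm.eq, mul_assoc, d.z_sq, mul_one, (hpc a1 b1).inv_right.eq] at hPzinv
      nth_rw 2 [hPzinv]
      group
    have hsone : s = 1 := by
      rcases hs1 with rfl | rfl
      · rfl
      · exfalso
        rw [hP1] at hPeq
        obtain ⟨-, h3⟩ := d.core_mul_S (one_mem _) hbc (one_mem _) d.zS
          (by rw [one_mul]; exact hPeq)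
        exact Invol.ne_one d.z_order h3.symm
    have hb1 : b = 1 := by rw [hP1, hsone, mul_one] at hPeq; exact hPeq.symm
    have hy1 : y = 1 := by rw [hab, ha1, hb1, one_mul]
    have hab1 : a1 = b1 := Subtype.ext (mul_left_cancel (mul_right_cancel (inv_mul_eq_one.1 hP1)))
    have hr1 : r = 1 := by rw [hys, hy1, hsone, one_mul]
    rw [hr, inv_mul_eq_one, hab1] at hr1
    have hq' : q a2 = q b2 := mul_left_cancel hr1
    have hp' : p a2 = p b2 := mul_left_cancel (mul_right_cancel hq')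
    exact Prod.ext hab1 (Subtype.ext (mul_left_cancel (mul_right_cancel hp')))
  have h := d.J_lower hA hG (Set.range f) (by rintro _ ⟨x, rfl⟩; exact hfJ x) hT
  rw [Nat.card_coe_set_eq, Set.ncard_range_of_injective hinj, Nat.card_prod, ← pow_two] at h
  exact h

end Cfsg.Lib.SmallCent.Setup
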