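import Cfsg.Agent.Lib.SmallCent.Count
import Cfsg.Agent.Lib.Small.SimpleOrder
import Mathlib.GroupTheory.IndexNormal

/-!
The two orders left by the arithmetic which belong to no simple group.
-/

set_option autoImplicit false

namespace Cfsg.Lib.SmallCent

open Subgroup MulAction

universe u

variable {G : Type u} [Group G] [Finite G] [IsSimpleGroup G]

/-- There is no simple group of order `2^3 * 3^6 * 5`. -/
theorem not_card_29160 (hG : ¬ IsCyclic G) (h : Nat.card G = 29160) : False := by
  classical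
  haveI : Fact (Nat.Prime 3) := ⟨Nat.prime_three⟩
  obtain ⟨hd, hmod⟩ := Small.sylow_facts (G := G) (p := 3) 6 40 (by rw [h]; norm_num) (by norm_num)
  have hcs : ∀ R : Sylow 3 G, Nat.card (R : Subgroup G) = 3 ^ 6 :=
    Small.card_sylow 6 40 (by rw [h]; norm_num) (by norm_num)
  obtain ⟨P⟩ : Nonempty (Sylow 3 G) := inferInstance
  have hsmall : ∀ K : Subgroup G, K ≠ ⊤ → K.index ≤ 10 → False := fun K hK hi => by
    have := Small.index_dvd_factorial_le hK hi
    rw [h] at this
    norm_num [Nat.factorial] at this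
  have hPne : (P : Subgroup G) ≠ ⊥ := fun e => by
    have := hcs P; rw [e, card_bot] at this; norm_num at this
  have hnorm : normalizer ((P : Subgroup G) : Set G) ≠ ⊤ := fun e => by
    rcases (normalizer_eq_top_iff.1 e).eq_bot_or_eq_top with e' | e'
    · exact hPne e'
    · have := hcs P; rw [e', card_top, h] at this; norm_num at this
  have h40 : Nat.card (Sylow 3 G) = 40 := by
    by_contra hne
    refine hsmall _ hnorm ?_
    refine (P.card_eq_index_normalizer).symm.trans_le ?_
    have := Nat.le_of_dvd (by norm_num) hd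
    interval_cases hn : Nat.card (Sylow 3 G) <;> omega
  -- two Sylow subgroups meeting in a subgroup of index three
  obtain ⟨Q, hQP, hQ⟩ : ∃ Q : Sylow 3 G, Q ≠ P ∧
      ¬ 9 ∣ ((P : Subgroup G) ⊓ (Q : Subgroup G)).relIndex (P : Subgroup G) := by
    by_contra hall
    push Not at hall
    letI := Fintype.ofFinite (Sylow 3 G)
    have hstab : ∀ Q : Sylow 3 G, stabilizer (P : Subgroup G) Q =
        ((P : Subgroup G) ⊓ (Q : Subgroup G)).subgroupOf (P : Subgroup G) := by
      intro Q
      ext g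
      rw [mem_stabilizer_iff, mem_subgroupOf, ← P.isPGroup'.inf_normalizer_sylow Q, mem_inf]
      show (g : G) • Q = Q ↔ _
      rw [Sylow.smul_eq_iff_mem_normalizer]
      exact (and_iff_right g.2).symm
    have hP1 : (stabilizer (P : Subgroup G) P) = ⊤ := by rw [hstab, inf_idem, subgroupOf_self]
    have hsum := Fintype.card_congr (selfEquivSigmaOrbits (P : Subgroup G) (Sylow 3 G))
    rw [← Nat.card_eq_fintype_card, h40, Fintype.card_sigma] at hsum
    set ω₀ : orbitRel.Quotient (P : Subgroup G) (Sylow 3 G) := Quotient.mk'' P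
    have horb : ∀ ω : orbitRel.Quotient (P : Subgroup G) (Sylow 3 G),
        Fintype.card (orbit (P : Subgroup G) ω.out) % 9 = if ω = ω₀ then 1 else 0 := by
      intro ω
      rw [← Nat.card_eq_fintype_card, Nat.card_coe_set_eq, ← index_stabilizer]
      by_cases e : ω.out = P
      · rw [e, hP1, index_top, if_pos (by rw [← Quotient.out_eq' ω, e])]
      · rw [if_neg, hstab]
        · exact Nat.mod_eq_zero_of_dvd (hall _ e)
        · intro hω
          subst hω
          obtain ⟨⟨g, hg⟩, hge⟩ := Quotient.exact' (Quotient.out_eq' ω₀)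
          apply e
          rw [← hge]
          show (g : G) • P = P
          exact (Sylow.smul_eq_iff_mem_normalizer).2 (le_normalizer hg)
    have : (40 : ℕ) % 9 = 1 := by
      rw [hsum, Finset.sum_nat_mod, Finset.sum_congr rfl fun ω _ => horb ω, Finset.sum_ite_eq',
        if_pos (Finset.mem_univ _)]
    norm_num at this
  set D := (P : Subgroup G) ⊓ (Q : Subgroup G)
  have hcardD : Nat.card D * D.relIndex (P : Subgroup G) = 3 ^ 6 := by
    rw [← hcs P, relIndex, ← Nat.card_congr (subgroupOfEquivOfLe (inf_le_left : D ≤ _)).toEquiv,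
      card_mul_index]
  have hne : ∀ R R' : Sylow 3 G, (R : Subgroup G) ≤ R' → R = R' := fun R R' hle =>
    Sylow.ext (eq_of_le_of_card_ge hle (by rw [hcs R, hcs R']))
  have hrel : D.relIndex (P : Subgroup G) = 3 := by
    obtain ⟨i, -, hi⟩ := (Nat.dvd_prime_pow Nat.prime_three).1 (Dvd.intro_left _ hcardD)
    rw [hi]
    rcases i with _ | _ | i
    · exfalso
      rw [pow_zero, relIndex_eq_one] at hi
      exact hQP (hne _ _ (hi.trans inf_le_right)).symm
    · rfl
    · exact absurd (by rw [hi, pow_succ, pow_succ, mul_assoc]; exact dvd_mul_left _ _) hQ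
  rw [hrel] at hcardD
  have hcardD' : Nat.card D = 3 ^ 5 := by norm_num at hcardD ⊢; omega
  have hnormR : ∀ R : Sylow 3 G, D ≤ R → (R : Subgroup G) ≤ normalizer (D : Set G) := by
    intro R hle
    refine (normal_subgroupOf_iff_le_normalizer hle).1 (normal_of_index_eq_minFac_card ?_)
    have h1 := (D.subgroupOf (R : Subgroup G)).card_mul_index
    rw [Nat.card_congr (subgroupOfEquivOfLe hle).toEquiv, hcs R, hcardD'] at h1
    rw [hcs R, Nat.pow_minFac (by norm_num), Nat.prime_three.minFac_eq]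
    norm_num at h1 ⊢
    omega
  set N := normalizer (D : Set G)
  have hPN : (P : Subgroup G) ≤ N := hnormR P inf_le_left
  have hQN : (Q : Subgroup G) ≤ N := hnormR Q inf_le_right
  have hNtop : N ≠ ⊤ := fun e => by
    rcases (normalizer_eq_top_iff.1 e).eq_bot_or_eq_top with e' | e'
    · rw [e', card_bot] at hcardD'; norm_num at hcardD'
    · rw [e', card_top, h] at hcardD'; norm_num at hcardD'
  have hidx : N.index ∣ 40 := by
    have h1 : (P : Subgroup G).index = 40 := by
      have := (P : Subgroup G).card_mul_index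
      rw [hcs P, h] at this
      norm_num at this
      omega
    exact h1 ▸ index_dvd_of_le hPN
  have h1 := N.card_mul_index
  rw [h] at h1
  have hbig : 20 ≤ N.index := by
    by_contra hlt
    have hle : N.index ≤ 10 := by
      have := Nat.le_of_dvd (by norm_num) hidx
      interval_cases hn : N.index <;> omega
    exact hsmall N hNtop hle
  have hN2 : Nat.card N ≤ 2 * 3 ^ 6 := by
    by_contra hc
    push Not at hc
    have := Nat.mul_le_mul hc.le hbig
    norm_num at hc
    nlinarith
  have hdvdN : 3 ^ 6 ∣ Nat.card N := hcs P ▸ card_dvd_of_le hPN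
  have hNn : ((P : Subgroup G).subgroupOf N).Normal := by
    obtain ⟨c, hc⟩ := hdvdN
    have hcpos : 0 < c := by
      rcases c with _ | c
      · exact absurd hc Nat.card_pos.ne'
      · omega
    have h2 := ((P : Subgroup G).subgroupOf N).card_mul_index
    rw [Nat.card_congr (subgroupOfEquivOfLe hPN).toEquiv, hcs P, hc] at h2
    have hic : ((P : Subgroup G).subgroupOf N).index = c := Nat.eq_of_mul_eq_mul_left (by norm_num) h2
    rw [hc] at hN2
    have hc2 : c ≤ 2 := by norm_num at hN2; omega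
    interval_cases c
    · rw [index_eq_one.1 hic]; infer_instance
    · exact normal_of_index_eq_two hic
  have hQnorm : (Q : Subgroup G) ≤ normalizer ((P : Subgroup G) : Set G) :=
    hQN.trans ((normal_subgroupOf_iff_le_normalizer hPN).1 hNn)
  have := Q.isPGroup'.inf_normalizer_sylow P
  exact hQP (hne _ _ (((le_inf le_rfl hQnorm).trans this.le).trans inf_le_right))

/-- The solution of order `7560` is impossible. -/
theorem Setup.not_card_7560 (d : Setup G) (hG : ¬ IsCyclic G) (h : Nat.card G = 7560)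
    (hA5 : Nat.card d.A = 5) (hB1 : Nat.card d.swap.A = 1) : False := by
  classical
  haveI : Fact (Nat.Prime 5) := ⟨by norm_num⟩
  have hA : d.A ≠ ⊥ := fun e => by rw [e, card_bot] at hA5; omega
  obtain ⟨hz, hτ', hw', -, -⟩ := d.X_basic hA
  have hcore : Nat.card d.core = 5 := by rw [d.card_core, hA5, hB1]
  -- the three involutions commuting with a given one
  obtain ⟨v, hvz, hvτ, hvzτ, hvA⟩ := d.exists_triality hG
  have hvX : v ∈ d.X := d.mem_X.2 fun a ha => (mul_inv_eq_iff_eq_mul.1 (hvA a ha)).symm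
  have hFz : ∀ u, u ∈ d.X → orderOf u = 2 → Commute u d.z →
      u = d.z ∨ u = d.τ ∨ u = d.z * d.τ := by
    intro u hu hu2 huz
    by_cases e : u = d.z
    · exact Or.inl e
    obtain ⟨b, hb, hub⟩ := d.X_invol hA hu hu2 huz e
    rw [card_eq_one.1 hB1, mem_bot] at hb
    subst hb
    rw [one_mul, one_mul] at hub
    exact Or.inr hub
  have htrans : ∀ i j l, i ∈ d.J → j ∈ d.J → l ∈ d.J → Commute i j → Commute j l → Commute i l := by
    intro i j l hi hj hl hij hjl
    obtain ⟨x, hx, rfl⟩ := d.X_oneClass hG hA hj.1 hj.2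
    have hmove : ∀ u, u ∈ d.J → Commute u (x * d.z * x⁻¹) →
        x⁻¹ * u * x = d.z ∨ x⁻¹ * u * x = d.τ ∨ x⁻¹ * u * x = d.z * d.τ := by
      intro u hu hc
      refine hFz _ (mul_mem (mul_mem (inv_mem hx) hu.1) hx) ?_ ?_
      · have h1 := Invol.orderOf_conj_eq x⁻¹ u
        rw [inv_inv] at h1
        rw [h1, hu.2]
      · have h1 := hc.map (MulAut.conj x⁻¹).toMonoidHom
        simpa [mul_assoc] using h1
    have hcomm : ∀ a b : G, (a = d.z ∨ a = d.τ ∨ a = d.z * d.τ) →
        (b = d.z ∨ b = d.τ ∨ b = d.z * d.τ) → Commute a b := by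
      have h1 : Commute d.τ (d.z * d.τ) := d.τ_z.mul_right (Commute.refl _)
      have h2 : Commute d.z (d.z * d.τ) := (Commute.refl _).mul_right d.τ_z.symm
      intro a b ha hb
      rcases ha with rfl | rfl | rfl <;> rcases hb with rfl | rfl | rfl <;>
        first
          | exact Commute.refl _
          | exact d.τ_z
          | exact d.τ_z.symm
          | exact h1
          | exact h1.symm
          | exact h2
          | exact h2.symm
    have := (hcomm _ _ (hmove i hi hij) (hmove l hl hjl.symm)).map (MulAut.conj x).toMonoidHom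
    simpa [mul_assoc] using this
  -- `X` has order 180
  have hXcard := d.card_X hA hG
  have hGeq := d.card_eq hA hG
  rw [hcore] at hXcard hGeq
  rw [h] at hGeq
  have hnJ : d.H.index * Nat.card d.J = 189 := by omega
  have hJ9 : Nat.card d.J = 9 := by
    have hA5' : Nat.card (d.A : Subgroup G) = 5 := hA5
    have hXN : d.H ≤ normalizer (d.A : Set G) := by
      intro g hg
      have hwA : ∀ a ∈ d.A, d.w * a * d.w⁻¹ = a⁻¹ := fun a ha => d.core_inverted (d.mem_A.1 ha).1
      have key : ∀ g ∈ d.H, ∀ a ∈ d.A, g * a * g⁻¹ ∈ d.A := by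
        intro g hg a ha
        rcases hg with hg | hg
        · rw [(d.mem_X.1 hg a ha).symm.eq, mul_inv_cancel_right]; exact ha
        · have h1 : g * d.w * a⁻¹ * (g * d.w)⁻¹ = a⁻¹ := by
            rw [(d.mem_X.1 hg a⁻¹ (inv_mem ha)).symm.eq, mul_inv_cancel_right]
          rw [show g * d.w * a⁻¹ * (g * d.w)⁻¹ = g * (d.w * a⁻¹ * d.w⁻¹) * g⁻¹ by group,
            hwA _ (inv_mem ha), inv_inv] at h1
          rw [h1]; exact inv_mem ha
      rw [mem_normalizer_iff]
      refine fun a => ⟨key g hg a, fun ha => ?_⟩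
      have := key _ (inv_mem hg) _ ha
      simpa [mul_assoc] using this
    have h3 : 3 ∣ Nat.card d.X := by
      refine dvd_trans ?_ (orderOf_dvd_natCard _ hvX)
      by_contra h3
      have hco : Nat.Coprime 3 (orderOf v) := (Nat.prime_three.coprime_iff_not_dvd).2 h3
      obtain ⟨r, hr⟩ := Nat.exists_mul_mod_eq_one_of_coprime hco (by
        have := orderOf_pos v
        rcases Nat.lt_or_ge 1 (orderOf v) with q | q
        · exact q
        · exfalso
          have : orderOf v = 1 := by omega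
          rw [orderOf_eq_one_iff] at this
          rw [this, one_mul, inv_one, mul_one] at hvz
          exact d.z_ne_τ hvz)
      have hv3 : Commute (v ^ 3) d.z := by
        refine mul_inv_eq_iff_eq_mul.1 ?_
        calc v ^ 3 * d.z * (v ^ 3)⁻¹ = v * (v * (v * d.z * v⁻¹) * v⁻¹) * v⁻¹ := by
              rw [pow_succ, pow_two]; group
          _ = d.z := by rw [hvz, hvτ, hvzτ]
      have hv : Commute v d.z := by
        have e : v = (v ^ 3) ^ r := by
          rw [← pow_mul, ← pow_mod_orderOf, hr.2, pow_one]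
        rw [e]; exact hv3.pow_left r
      rw [hv.eq, mul_inv_cancel_right] at hvz
      exact d.z_ne_τ hvz
    obtain ⟨P, hP⟩ := (IsPGroup.of_card (n := 1) (by rw [hA5', pow_one]) :
      IsPGroup 5 d.A).exists_le_sylow
    have hcP := Small.card_sylow (G := G) (p := 5) 1 1512 (by rw [h]; norm_num) (by norm_num) P
    have hPA : d.A = (P : Subgroup G) := eq_of_le_of_card_ge hP (by rw [hcP, hA5']; norm_num)
    obtain ⟨-, hmod⟩ := Small.sylow_facts (G := G) (p := 5) 1 1512 (by rw [h]; norm_num) (by norm_num)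
    have hmul := Small.card_normalizer_mul (p := 5) P
    rw [← hPA, h] at hmul
    have hH : Nat.card d.H ∣ Nat.card (normalizer (d.A : Set G)) := card_dvd_of_le hXN
    have h120 : 120 ∣ Nat.card (normalizer (d.A : Set G)) := by
      refine dvd_trans ?_ hH
      rw [d.card_H hA]
      have h20 : 20 ∣ Nat.card d.X := ⟨Nat.card d.J, by rw [hXcard]; ring⟩
      have := Nat.Coprime.mul_dvd_of_dvd_of_dvd (by norm_num : Nat.Coprime 3 20) h3 h20
      exact (show 120 = 2 * (3 * 20) by norm_num) ▸ Nat.mul_dvd_mul_left 2 this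
    have hn5 : Nat.card (Sylow 5 G) ∣ 63 := by
      obtain ⟨c, hc⟩ := h120
      exact ⟨c, by rw [hc] at hmul; nlinarith⟩
    have hne1 : Nat.card (Sylow 5 G) ≠ 1 := by
      intro e
      rw [e, one_mul] at hmul
      have htop : normalizer (d.A : Set G) = ⊤ := eq_top_of_card_eq _ (by rw [hmul, h])
      rcases (normalizer_eq_top_iff.1 htop).eq_bot_or_eq_top with e' | e'
      · exact hA e'
      · rw [e', card_top, h] at hA5'; omega
    have h21 : Nat.card (Sylow 5 G) = 21 := by
      have := Nat.le_of_dvd (by norm_num) hn5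
      interval_cases hn : Nat.card (Sylow 5 G) <;> omega
    rw [h21] at hmul
    have hN360 : Nat.card (normalizer (d.A : Set G)) = 360 := by omega
    have hrel := Small.relIndex_centralizer_dvd d.A hA5'
    have hXle : d.X ≤ normalizer (d.A : Set G) := d.X_le_H.trans hXN
    have hmul2 : Nat.card d.X * d.X.relIndex (normalizer (d.A : Set G)) = 360 := by
      rw [← hN360, relIndex, ← Nat.card_congr (subgroupOfEquivOfLe hXle).toEquiv, card_mul_index]
    have hr4 : d.X.relIndex (normalizer (d.A : Set G)) ∣ 4 := hrel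
    have hJodd : Odd (Nat.card d.J) := by
      have : Odd (d.H.index * Nat.card d.J) := by rw [hnJ]; decide
      exact (Nat.odd_mul.1 this).2
    obtain ⟨i, hi⟩ := hJodd
    have hr4' := Nat.le_of_dvd (by norm_num) hr4
    rw [hXcard] at hmul2
    interval_cases d.X.relIndex (normalizer (d.A : Set G)) <;> omega
  -- nine involutions cannot fall into three commuting triples
  have hzJ : d.z ∈ d.J := ⟨hz, d.z_order⟩
  have hFours : ∀ x, x ∈ d.J → ∃ F : Finset G, F.card = 3 ∧ ∀ u, u ∈ F ↔ u ∈ d.J ∧ Commute u x := by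
    intro x hx
    obtain ⟨y, hy, rfl⟩ := d.X_oneClass hG hA hx.1 hx.2
    refine ⟨({d.z, d.τ, d.z * d.τ} : Finset G).image fun u => y * u * y⁻¹, ?_, fun u => ?_⟩
    · rw [Finset.card_image_of_injective _ fun a b e => mul_left_cancel (mul_right_cancel e)]
      have h1 : d.z * d.τ ≠ d.τ := fun e => Invol.ne_one d.z_order (mul_eq_right.1 e)
      have h2 : d.z * d.τ ≠ d.z := fun e => Invol.ne_one d.hτ (mul_eq_left.1 e)
      rw [Finset.card_insert_of_notMem (by simp [d.z_ne_τ, h2.symm]),
        Finset.card_insert_of_notMem (by simp [h1.symm]), Finset.card_singleton]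
    · constructor
      · intro hu
        obtain ⟨a, ha, rfl⟩ := Finset.mem_image.1 hu
        simp only [Finset.mem_insert, Finset.mem_singleton] at ha
        have haX : a ∈ d.X ∧ orderOf a = 2 ∧ Commute a d.z := by
          rcases ha with rfl | rfl | rfl
          · exact ⟨hz, d.z_order, Commute.refl _⟩
          · exact ⟨hτ', d.hτ, d.τ_z⟩
          · exact ⟨mul_mem hz hτ', by rw [← d.conj_w_τ, Invol.orderOf_conj_eq, d.hτ],
              (Commute.refl d.z).mul_left d.τ_z⟩
        exact ⟨⟨mul_mem (mul_mem hy haX.1) (inv_mem hy), by rw [Invol.orderOf_conj_eq, haX.2.1]⟩,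
          haX.2.2.map (MulAut.conj y).toMonoidHom⟩
      · rintro ⟨hu, hc⟩
        refine Finset.mem_image.2 ⟨y⁻¹ * u * y, ?_, by group⟩
        simp only [Finset.mem_insert, Finset.mem_singleton]
        refine hFz _ (mul_mem (mul_mem (inv_mem hy) hu.1) hy) ?_ ?_
        · have h1 := Invol.orderOf_conj_eq y⁻¹ u
          rw [inv_inv] at h1
          rw [h1, hu.2]
        · have h1 := hc.map (MulAut.conj y⁻¹).toMonoidHom
          simpa [mul_assoc] using h1
  have hclass3 : ∀ j, j ∈ d.J → ¬ Commute j d.z → ∀ a b, a ∈ d.J → b ∈ d.J → ¬ Commute a d.z →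
      ¬ Commute b d.z → ¬ Commute a j → ¬ Commute b j → Commute a b := by
    intro j hj hjz a b ha hb haz hbz haj hbj
    by_contra hab
    obtain ⟨F1, c1, m1⟩ := hFours d.z hzJ
    obtain ⟨F2, c2, m2⟩ := hFours j hj
    obtain ⟨F3, c3, m3⟩ := hFours a ha
    obtain ⟨F4, c4, m4⟩ := hFours b hb
    have hdis : ∀ (x y : G) (Fx Fy : Finset G), x ∈ d.J → y ∈ d.J →
        (∀ u, u ∈ Fx ↔ u ∈ d.J ∧ Commute u x) → (∀ u, u ∈ Fy ↔ u ∈ d.J ∧ Commute u y) →
        ¬ Commute x y → Disjoint Fx Fy := by
      intro x y Fx Fy hx hy mx my hxy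
      rw [Finset.disjoint_left]
      intro u hux huy
      obtain ⟨hu, hux⟩ := (mx u).1 hux
      exact hxy (htrans x u y hx hu hy hux.symm ((my u).1 huy).2)
    have d12 := hdis _ _ F1 F2 hzJ hj m1 m2 fun c => hjz c.symm
    have d13 := hdis _ _ F1 F3 hzJ ha m1 m3 fun c => haz c.symm
    have d14 := hdis _ _ F1 F4 hzJ hb m1 m4 fun c => hbz c.symm
    have d23 := hdis _ _ F2 F3 hj ha m2 m3 fun c => haj c.symm
    have d24 := hdis _ _ F2 F4 hj hb m2 m4 fun c => hbj c.symm
    have d34 := hdis _ _ F3 F4 ha hb m3 m4 hab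
    have h12 : (F1 ∪ F2 ∪ F3 ∪ F4).card = 12 := by
      rw [Finset.card_union_of_disjoint (Finset.disjoint_union_left.2
          ⟨Finset.disjoint_union_left.2 ⟨d14, d24⟩, d34⟩),
        Finset.card_union_of_disjoint (Finset.disjoint_union_left.2 ⟨d13, d23⟩),
        Finset.card_union_of_disjoint d12, c1, c2, c3, c4]
    have hsub : ((F1 ∪ F2 ∪ F3 ∪ F4 : Finset G) : Set G) ⊆ d.J := by
      intro u hu
      simp only [Finset.coe_union, Set.mem_union, Finset.mem_coe, m1, m2, m3, m4] at hu
      tauto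
    have := Set.ncard_le_ncard hsub (Set.toFinite _)
    rw [Set.ncard_coe_finset, h12, ← Nat.card_coe_set_eq, hJ9] at this
    omega
  obtain ⟨j, hj, hjz⟩ : ∃ j, j ∈ d.J ∧ ¬ Commute j d.z := by
    by_contra hall
    push Not at hall
    obtain ⟨F1, c1, m1⟩ := hFours d.z hzJ
    have hsub : d.J ⊆ (F1 : Set G) := fun u hu => Finset.mem_coe.2 ((m1 u).2 ⟨hu, hall u hu⟩)
    have := Set.ncard_le_ncard hsub (Set.toFinite _)
    rw [Set.ncard_coe_finset, c1, ← Nat.card_coe_set_eq, hJ9] at this
    omega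
  -- conjugation by the three involutions commuting with `z`
  have hconjJ : ∀ e, e ∈ d.J → Commute e d.z → e * j * e⁻¹ ∈ d.J ∧ ¬ Commute (e * j * e⁻¹) d.z := by
    intro e he hez
    refine ⟨⟨mul_mem (mul_mem he.1 hj.1) (inv_mem he.1), by rw [Invol.orderOf_conj_eq, hj.2]⟩,
      fun c => hjz ?_⟩
    have h1 := c.map (MulAut.conj e⁻¹).toMonoidHom
    change Commute (e⁻¹ * (e * j * e⁻¹) * e⁻¹⁻¹) (e⁻¹ * d.z * e⁻¹⁻¹) at h1
    rw [hez.inv_left.eq, mul_inv_cancel_right] at h1
    convert h1 using 1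
    group
  have hτJ : d.τ ∈ d.J := ⟨hτ', d.hτ⟩
  have hzτJ : d.z * d.τ ∈ d.J := ⟨mul_mem hz hτ', by rw [← d.conj_w_τ, Invol.orderOf_conj_eq, d.hτ]⟩
  obtain ⟨e, he, hez, hej⟩ : ∃ e, e ∈ d.J ∧ Commute e d.z ∧ Commute (e * j * e⁻¹) j := by
    by_contra hall
    push Not at hall
    have h1 := hall d.z hzJ (Commute.refl _)
    have h2 := hall d.τ hτJ d.τ_z
    have h3 := hall (d.z * d.τ) hzτJ ((Commute.refl d.z).mul_left d.τ_z)
    obtain ⟨a1, a2⟩ := hconjJ d.z hzJ (Commute.refl _)
    obtain ⟨b1, b2⟩ := hconjJ d.τ hτJ d.τ_z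
    have hab := hclass3 j hj hjz _ _ a1 b1 a2 b2 h1 h2
    apply h3
    have h4 := hab.symm.map (MulAut.conj d.z).toMonoidHom
    change Commute (d.z * (d.τ * j * d.τ⁻¹) * d.z⁻¹) (d.z * (d.z * j * d.z⁻¹) * d.z⁻¹) at h4
    rw [show d.z * (d.z * j * d.z⁻¹) * d.z⁻¹ = (d.z * d.z) * j * (d.z * d.z)⁻¹ by group, d.z_sq,
      one_mul, inv_one, mul_one] at h4
    convert h4 using 1
    group
  obtain ⟨hl1, hl2⟩ := hconjJ e he hez
  have he2 : e * e = 1 := Invol.inv_mul_self he.2
  have hei : e⁻¹ = e := Invol.inv_eq_self he.2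
  by_cases hsame : e * j * e⁻¹ = j
  · exact hjz (htrans j e d.z hj he hzJ (mul_inv_eq_iff_eq_mul.1 hsame).symm hez)
  set l := j * (e * j * e⁻¹)
  have hlJ : l ∈ d.J := ⟨mul_mem hj.1 hl1.1, Invol.orderOf_eq_two_of
    (fun hh => hsame ((mul_eq_one_iff_eq_inv'.1 hh).trans (Invol.inv_eq_self hj.2)))
    (by
      show j * (e * j * e⁻¹) * (j * (e * j * e⁻¹)) = 1
      rw [hej.mul_mul_mul_comm, Invol.inv_mul_self hj.2, Invol.inv_mul_self hl1.2, one_mul])⟩
  have hle : Commute e l := by
    refine mul_inv_eq_iff_eq_mul.1 ?_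
    show e * (j * (e * j * e⁻¹)) * e⁻¹ = j * (e * j * e⁻¹)
    refine Eq.trans ?_ hej.eq
    calc e * (j * (e * j * e⁻¹)) * e⁻¹ = (e * j * e⁻¹) * ((e * e) * j * (e * e)⁻¹) := by group
      _ = _ := by rw [he2]; group
  exact hjz (htrans j l d.z hj hlJ hzJ ((Commute.refl j).mul_right hej.symm)
    (htrans l e d.z hlJ he hzJ hle.symm hez))

end Cfsg.Lib.SmallCent
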