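import Cfsg.Agent.Lib.SmallCent.Arith
import Cfsg.Agent.Lib.SmallCent.Chars
import Cfsg.Agent.Lib.SmallCent.Cosets
import Cfsg.Agent.Lib.SmallCent.Extra
import Cfsg.Agent.Lib.SmallCent.Orders

/-!
The order of a simple group with a self-centralizing element of order four.
-/

set_option autoImplicit false

namespace Cfsg.Lib.SmallCent

open Subgroup

universe u

variable {G : Type u} [Group G] [Finite G] [IsSimpleGroup G]

/-- One of the factors is trivial. -/
theorem Setup.card_of_trivial (d : Setup G) (hG : ¬ IsCyclic G) (hB : Nat.card d.swap.A = 1) :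
    Nat.card G = 168 ∨ Nat.card G = 360 ∨ Nat.card G = 2520 := by
  obtain ⟨δ, m, k, P, hδ, hm, hk, hsum, hG', hP⟩ := d.order_data hG
  rw [d.card_core, hB, mul_one] at hG' hP
  rw [hB] at hsum
  have ho : (Nat.card d.A : ℤ) = 2 * m * k - 1 := by
    have : ((Nat.card d.A : ℤ) + 1) = 2 * m * k := by exact_mod_cast hsum
    linarith
  rw [ho] at hG' hP
  rcases sols hδ hm hk hP with ⟨rfl, rfl⟩ | ⟨rfl, ⟨rfl, rfl⟩ | ⟨rfl, rfl⟩⟩
  · rcases hδ with q | q <;> subst q <;> norm_num at hG'
    · exact Or.inr (Or.inl (by exact_mod_cast hG'))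
    · exact Or.inl (by exact_mod_cast hG')
  · exfalso
    norm_num at hG' ho
    exact d.not_card_7560 hG (by exact_mod_cast hG') (by exact_mod_cast ho) hB
  · norm_num at hG'
    exact Or.inr (Or.inr (by exact_mod_cast hG'))

/-- Both factors cannot be nontrivial. -/
theorem Setup.false_of_nontrivial (d : Setup G) (hG : ¬ IsCyclic G) (h1 : 1 < Nat.card d.A)
    (hle : Nat.card d.A ≤ Nat.card d.swap.A) : False := by
  have hA : d.A ≠ ⊥ := fun e => by rw [e, card_bot] at h1; omega
  have hB : d.swap.A ≠ ⊥ := fun e => by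
    rw [e, card_bot] at hle; omega
  obtain ⟨δ, m, k, P, hδ, hm, hk, hsum, hG', -⟩ := d.order_data hG
  obtain ⟨a, b, hn, ha, hb, hb3, hv⟩ := d.cosets_shape hG hA hB
  have hcard := d.card_eq hA hG
  have hJ' : a = 1 → 2 * Nat.card d.swap.A ^ 2 + Nat.card d.A ^ 2 ≤ Nat.card d.J := fun ha1 => by
    obtain ⟨v, h1, -, h3, h4, h5⟩ := hv ha1
    exact d.J_lower_extra hG hA hB h1 h3 h4 h5
  have hnJ : (d.H.index : ℤ) * (Nat.card d.J : ℤ) = (8 * m + δ) * (4 * m + δ) * (k : ℤ) ^ 2 := by
    have ho : (8 * (Nat.card d.core : ℤ)) ≠ 0 := by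
      have : 0 < Nat.card d.core := Nat.card_pos
      omega
    have hc : (Nat.card G : ℤ) = d.H.index * Nat.card d.J * (8 * Nat.card d.core) := by
      exact_mod_cast hcard
    apply mul_left_cancel₀ ho
    linear_combination hG' - hc
  have hfac := Small.card_dvd_factorial (d.H_ne_top hA hG)
  rw [hcard, d.card_core] at hfac
  have h := both hδ hm hk d.A_odd h1 hsum hle hn ha hb hb3 (d.J_lower_one hA hG) hJ' hnJ hfac
  exact not_card_29160 hG (by rw [hcard, d.card_core, h])

/-- The order of `G`. -/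
theorem Setup.card_group (d : Setup G) (hG : ¬ IsCyclic G) :
    Nat.card G = 168 ∨ Nat.card G = 360 ∨ Nat.card G = 2520 := by
  have hswap : Nat.card d.swap.swap.A = Nat.card d.A := by
    have h1 := d.card_core
    have h2 : Nat.card d.core = Nat.card d.swap.A * Nat.card d.swap.swap.A := d.swap.card_core
    have h3 : 0 < Nat.card d.swap.A := Nat.card_pos
    exact Nat.eq_of_mul_eq_mul_left h3 (by rw [← h2, h1, mul_comm])
  by_cases hB : Nat.card d.swap.A = 1
  · exact d.card_of_trivial hG hB
  by_cases hA : Nat.card d.A = 1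
  · exact d.swap.card_of_trivial hG (hswap.trans hA)
  exfalso
  have h1 : 0 < Nat.card d.A := Nat.card_pos
  have h2 : 0 < Nat.card d.swap.A := Nat.card_pos
  rcases le_total (Nat.card d.A) (Nat.card d.swap.A) with h | h
  · exact d.false_of_nontrivial hG (by omega) h
  · exact d.swap.false_of_nontrivial hG (by omega) (h.trans hswap.ge)

end Cfsg.Lib.SmallCent
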